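import Mathlib.GroupTheory.Transfer
import Cfsg.Agent.Lib.Cores

/-!
# The kernel lemma (#14148, 10.1; #15333 (r8))

`M = ⟨X, P⟩` finite, `C ⊴ M` (the kernel of the action on `Σ`), `S` a Sylow `2`-subgroup of `P`, `[C, X] ≤ S`,
`X ∩ C ≤ S`, `X` perfect modulo `X ∩ C`, `M = ⟨X^M⟩ S`, `S ≤ (X ∩ S) C` and `S C / C` a Sylow `2`-subgroup of `M / C`.
Then `D = S ∩ C` is normal in `M`, `[C, M] ≤ D` and `C / D` has odd order (`Kernel.main`).
-/

set_option autoImplicit false

namespace Cfsg.Agent.Omega.HSplit.Kernel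

open Subgroup Cfsg Cfsg.Agent.Lib.Cores
open scoped commutatorElement

variable {M : Type*} [Group M]

/-- Transfer: in a perfect group a central subgroup with a complement `S₁` in `S₁ Z` has exponent dividing the index. -/
theorem transfer_central [Finite M] (hM : commutator M = ⊤) (Z S₁ : Subgroup M) (hZ : Z ≤ center M)
    (h0 : S₁ ⊓ Z = ⊥) {z : M} (hz : z ∈ Z) : z ^ (S₁ ⊔ Z).index = 1 := by
  set H := S₁ ⊔ Z with hH
  have hSH : S₁ ≤ H := le_sup_left
  have hZH : Z ≤ H := le_sup_right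
  have hZn : Z.Normal := ⟨fun z hz g => by
    have h1 : g * z = z * g := mem_center_iff.1 (hZ hz) g
    rw [h1, mul_inv_cancel_right]
    exact hz⟩
  -- `S₁` is normal in `H`
  have hn : (S₁.subgroupOf H).Normal := by
    rw [normal_subgroupOf_iff hSH]
    intro s h hs hh
    obtain ⟨a, ha, b, hb, rfl⟩ := mem_sup_of_normal_right.1 hh
    have h1 : b * s = s * b := (mem_center_iff.1 (hZ hb) s).symm
    have h2 : a * b * s * (a * b)⁻¹ = a * s * a⁻¹ := by
      calc a * b * s * (a * b)⁻¹ = a * (b * s) * b⁻¹ * a⁻¹ := by group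
        _ = a * s * a⁻¹ := by rw [h1]; group
    rw [h2]
    exact mul_mem (mul_mem ha hs) (inv_mem ha)
  -- the quotient is abelian
  have hc : ∀ a b : ↥H ⧸ S₁.subgroupOf H, a * b = b * a := by
    have key : ∀ a : ↥H, ∃ b : ↥H, (b : M) ∈ Z ∧ (a : ↥H ⧸ S₁.subgroupOf H) = (b : ↥H ⧸ S₁.subgroupOf H) := by
      rintro ⟨a, ha⟩
      obtain ⟨s, hs, b, hb, rfl⟩ := mem_sup_of_normal_right.1 ha
      refine ⟨⟨b, hZH hb⟩, hb, ?_⟩
      rw [QuotientGroup.eq, mem_subgroupOf]
      have h1 : s * b = b * s := mem_center_iff.1 (hZ hb) s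
      have h2 : (((⟨s * b, ha⟩ : ↥H)⁻¹ * ⟨b, hZH hb⟩ : ↥H) : M) = s⁻¹ := by
        push_cast
        rw [h1]; group
      rw [h2]
      exact inv_mem hs
    intro a b
    induction a using QuotientGroup.induction_on with
    | H a =>
      induction b using QuotientGroup.induction_on with
      | H b =>
        obtain ⟨a', ha', h1⟩ := key a
        obtain ⟨b', hb', h2⟩ := key b
        rw [h1, h2, ← QuotientGroup.mk_mul, ← QuotientGroup.mk_mul]
        congr 1
        apply Subtype.ext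
        exact mem_center_iff.1 (hZ hb') _
  let A := ↥H ⧸ S₁.subgroupOf H
  let : CommGroup A := { (inferInstance : Group A) with mul_comm := hc }
  let ϕ : ↥H →* A := QuotientGroup.mk' _
  have key : ∀ (k : ℕ) (g₀ : M), g₀⁻¹ * z ^ k * g₀ ∈ H → g₀⁻¹ * z ^ k * g₀ = z ^ k := by
    intro k g₀ _
    have h1 : z ^ k * g₀ = g₀ * z ^ k := (mem_center_iff.1 (hZ (pow_mem hz k)) g₀).symm
    rw [mul_assoc, h1, inv_mul_cancel_left]
  have h1 := MonoidHom.transfer_eq_pow ϕ z key
  have h2 : MonoidHom.transfer ϕ z = 1 := by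
    have h3 : commutator M ≤ (MonoidHom.transfer ϕ).ker := Abelianization.commutator_subset_ker _
    exact h3 (by rw [hM]; exact mem_top z)
  rw [h2] at h1
  have h3 : z ^ H.index ∈ S₁ := by
    have h4 := (QuotientGroup.eq_one_iff _).1 h1.symm
    exact mem_subgroupOf.1 h4
  have h4 : z ^ H.index ∈ S₁ ⊓ Z := ⟨h3, pow_mem hz _⟩
  rw [h0] at h4
  exact mem_bot.1 h4

/-- the index of a subgroup in a normal subgroup which covers everything modulo it -/
theorem index_eq_relIndex {R H : Subgroup M} [R.Normal] (h : R ⊔ H = ⊤) : H.relIndex R = H.index := by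
  refine Nat.card_congr (Equiv.ofBijective (fun q : ↥R ⧸ H.subgroupOf R =>
    Quotient.liftOn' q (fun r => ((r : M) : M ⧸ H)) ?_) ⟨?_, ?_⟩)
  · intro a b hab
    rw [QuotientGroup.leftRel_apply, mem_subgroupOf] at hab
    exact QuotientGroup.eq.2 hab
  · intro q q'
    induction q using QuotientGroup.induction_on with
    | H a =>
      induction q' using QuotientGroup.induction_on with
      | H b =>
        intro hab
        have h1 : ((a : M) : M ⧸ H) = ((b : M) : M ⧸ H) := hab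
        rw [QuotientGroup.eq] at h1
        rw [QuotientGroup.eq, mem_subgroupOf]
        exact h1
  · intro q
    induction q using QuotientGroup.induction_on with
    | H g =>
      obtain ⟨r, hr, x, hx, rfl⟩ := mem_sup_of_normal_left.1 (show g ∈ R ⊔ H by rw [h]; exact mem_top g)
      refine ⟨((⟨r, hr⟩ : ↥R) : ↥R ⧸ H.subgroupOf R), ?_⟩
      show ((r : M) : M ⧸ H) = ((r * x : M) : M ⧸ H)
      rw [QuotientGroup.eq, inv_mul_cancel_left]
      exact hx

/-- the kernel lemma, reduced form -/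
theorem reduced [Finite M] (C X S : Subgroup M) [C.Normal]
    (hCX : ∀ c ∈ C, ∀ x ∈ X, c * x = x * c) (hXC : X ⊓ C = ⊥) (hX : X ≤ ⁅X, X⁆)
    (hgen : normalClosure (X : Set M) ⊔ S = ⊤) (hcov : ∀ s ∈ S, ∃ x ∈ X, x ∈ S ∧ s⁻¹ * x ∈ C)
    (hidx : ¬ 2 ∣ (S ⊔ C).index)
    (hN : ∀ N : Subgroup M, N ≤ C → N ≤ S → (∀ c ∈ C, ∀ x ∈ N, c * x * c⁻¹ ∈ N) → N = ⊥) :
    S ⊓ C = ⊥ ∧ C ≤ center M ∧ Odd (Nat.card C) := by
  set R := normalClosure (X : Set M) with hR
  have hXR : X ≤ R := subset_normalClosure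
  -- `[C, R] = 1`
  have hCR : ∀ c ∈ C, ∀ r ∈ R, c * r = r * c := by
    have h1 : R ≤ centralizer (C : Set M) := by
      apply normalClosure_le_normal
      intro x hx
      rw [SetLike.mem_coe, mem_centralizer_iff]
      exact fun c hc => hCX c hc x hx
    intro c hc r hr
    exact mem_centralizer_iff.1 (h1 hr) c hc
  -- `R` is perfect
  have hRp : R ≤ ⁅R, R⁆ := by
    apply normalClosure_le_normal
    exact hX.trans (commutator_mono hXR hXR)
  have hRp' : commutator ↥R = ⊤ := by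
    rw [eq_top_iff]
    have h1 : (commutator ↥R).map R.subtype = ⁅R, R⁆ := map_subtype_commutator R
    intro r _
    have h2 : (r : M) ∈ (commutator ↥R).map R.subtype := by
      rw [h1]; exact hRp r.2
    obtain ⟨r', hr', h3⟩ := h2
    have : r' = r := Subtype.ext h3
    rwa [← this]
  -- `K = R ∩ C`
  have hsup : R ⊔ (S ⊔ C) = ⊤ := by
    rw [eq_top_iff, ← hgen]
    exact sup_le_sup le_rfl le_sup_left
  have hk : ∃ k, ¬ 2 ∣ k ∧ ∀ z ∈ C, z ∈ R → z ^ k = 1 := by
    refine ⟨(((S ⊓ X).subgroupOf R) ⊔ (C.subgroupOf R)).index, ?_, ?_⟩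
    · have h1 : ((S ⊓ X).subgroupOf R) ⊔ (C.subgroupOf R) = (S ⊔ C).subgroupOf R := by
        apply le_antisymm
        · apply sup_le
          · exact fun r hr => mem_subgroupOf.2 ((le_sup_left : S ≤ S ⊔ C) (mem_subgroupOf.1 hr).1)
          · exact fun r hr => mem_subgroupOf.2 ((le_sup_right : C ≤ S ⊔ C) (mem_subgroupOf.1 hr))
        · intro r hr
          obtain ⟨s, hs, c, hc, h2⟩ := mem_sup_of_normal_right.1 (mem_subgroupOf.1 hr)
          obtain ⟨x, hx, hxS, hx1⟩ := hcov s hs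
          have h3 : x⁻¹ * (r : M) ∈ C := by
            rw [← h2]
            have : x⁻¹ * (s * c) = (s⁻¹ * x)⁻¹ * c := by group
            rw [this]
            exact mul_mem (inv_mem hx1) hc
          have h4 : r = ⟨x, hXR hx⟩ * ⟨x⁻¹ * (r : M), mul_mem (inv_mem (hXR hx)) r.2⟩ := by
            apply Subtype.ext
            push_cast
            group
          rw [h4]
          exact mul_mem (mem_sup_left (mem_subgroupOf.2 ⟨hxS, hx⟩)) (mem_sup_right (mem_subgroupOf.2 h3))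
      rw [h1]
      have h2 : ((S ⊔ C).subgroupOf R).index = (S ⊔ C).index := index_eq_relIndex hsup
      rw [h2]
      exact hidx
    · intro z hz hzR
      have h1 := transfer_central hRp' (C.subgroupOf R) ((S ⊓ X).subgroupOf R) (fun c hc => by
          rw [mem_center_iff]
          intro r
          apply Subtype.ext
          exact (hCR c (mem_subgroupOf.1 hc) r r.2).symm) (by
          rw [eq_bot_iff]
          rintro x ⟨hx1, hx2⟩
          have h3 : (x : M) ∈ X ⊓ C := ⟨(mem_subgroupOf.1 hx1).2, mem_subgroupOf.1 hx2⟩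
          rw [hXC] at h3
          exact mem_bot.2 (Subtype.ext (mem_bot.1 h3)))
        (z := ⟨z, hzR⟩) (mem_subgroupOf.2 hz)
      exact congrArg Subtype.val h1
  obtain ⟨k, hk2, hk⟩ := hk
  -- `C = K (S ∩ C)`
  have hdec : ∀ c ∈ C, ∃ z ∈ C, z ∈ R ∧ ∃ s ∈ S, s ∈ C ∧ c = z * s := by
    intro c hc
    obtain ⟨r, hr, s0, hs0, rfl⟩ := mem_sup_of_normal_left.1 (show c ∈ R ⊔ S by rw [hgen]; exact mem_top c)
    obtain ⟨x, hx, hxS, hx1⟩ := hcov s0 hs0
    refine ⟨r * x, ?_, mul_mem hr (hXR hx), x⁻¹ * s0, mul_mem (inv_mem hxS) hs0, ?_, by group⟩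
    · have : r * x = (r * s0) * (s0⁻¹ * x) := by group
      rw [this]
      exact mul_mem hc hx1
    · have : x⁻¹ * s0 = (s0⁻¹ * x)⁻¹ := by group
      rw [this]
      exact inv_mem hx1
  have hSC : S ⊓ C = ⊥ := by
    apply hN _ inf_le_right inf_le_left
    rintro c hc x ⟨hxS, hxC⟩
    obtain ⟨z, hz, hzR, s, hs, hsC, rfl⟩ := hdec c hc
    have h1 : z * s * x * (z * s)⁻¹ = s * x * s⁻¹ := by
      have h2 : z * (s * x * s⁻¹) = (s * x * s⁻¹) * z :=
        (hCR _ (mul_mem (mul_mem hsC hxC) (inv_mem hsC)) z hzR).symm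
      calc z * s * x * (z * s)⁻¹ = z * (s * x * s⁻¹) * z⁻¹ := by group
        _ = s * x * s⁻¹ := by rw [h2, mul_inv_cancel_right]
    rw [h1]
    exact mem_inf.2 ⟨mul_mem (mul_mem hs hxS) (inv_mem hs), mul_mem (mul_mem hsC hxC) (inv_mem hsC)⟩
  have hCle : C ≤ R := by
    intro c hc
    obtain ⟨z, hz, hzR, s, hs, hsC, rfl⟩ := hdec c hc
    have h1 : s ∈ S ⊓ C := ⟨hs, hsC⟩
    rw [hSC] at h1
    rw [mem_bot.1 h1, mul_one]
    exact hzR
  refine ⟨hSC, ?_, ?_⟩
  · intro c hc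
    rw [mem_center_iff]
    intro g
    obtain ⟨r, hr, s, hs, rfl⟩ := mem_sup_of_normal_left.1 (show g ∈ R ⊔ S by rw [hgen]; exact mem_top g)
    obtain ⟨x, hx, hxS, hx1⟩ := hcov s hs
    have h1 : c * r = r * c := hCR c hc r hr
    have h2 : c * x = x * c := hCX c hc x hx
    have h3 : c * (s⁻¹ * x) = (s⁻¹ * x) * c := hCR c hc _ (hCle hx1)
    have h4 : c * s⁻¹ = s⁻¹ * c := by
      have h5 : c * s⁻¹ * x = s⁻¹ * c * x := by
        rw [mul_assoc, h3, mul_assoc, ← h2, mul_assoc]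
      exact mul_right_cancel h5
    have h5 : s * c = c * s := by
      have h6 : s * (c * s⁻¹) * s = s * (s⁻¹ * c) * s := by rw [h4]
      rw [mul_inv_cancel_left] at h6
      rw [← h6]; group
    rw [mul_assoc, h5, ← mul_assoc, ← h1, mul_assoc]
  · by_contra hne
    rw [Nat.not_odd_iff_even] at hne
    obtain ⟨c, hc⟩ := exists_prime_orderOf_dvd_card' 2 (even_iff_two_dvd.1 hne)
    have h1 := hk c c.2 (hCle c.2)
    have h2 : (c : M) ^ k = 1 := h1
    have h3 : orderOf (c : M) ∣ k := orderOf_dvd_of_pow_eq_one h2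
    rw [orderOf_coe, hc] at h3
    exact hk2 h3

/-- a `2`-subgroup of `C ⊴ M` normalised by `C` lies in `O₂(M)` -/
theorem le_core (C N : Subgroup M) [hC : C.Normal] (hNC : N ≤ C) (hN : IsPGroup 2 N)
    (h : ∀ c ∈ C, ∀ x ∈ N, c * x * c⁻¹ ∈ N) : N ≤ pCore 2 M := by
  have h1 : (N.subgroupOf C).Normal :=
    ⟨fun n hn g => mem_subgroupOf.2 (h g g.2 n (mem_subgroupOf.1 hn))⟩
  have h2 : N.subgroupOf C ≤ pCore 2 ↥C := le_pCore h1 hN.comap_subtype
  have h3 := map_mono (f := C.subtype) h2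
  rw [subgroupOf_map_subtype, map_subtype_pCore 2 hC] at h3
  intro x hx
  exact (h3 ⟨hx, hNC hx⟩).2

/-- **The kernel lemma.** -/
theorem main [Finite M] (C X P S : Subgroup M) [hC : C.Normal] (hS : IsPGroup 2 S) (hSP : S ≤ P)
    (hSyl : ¬ 2 ∣ S.relIndex P) (hXP : X ⊔ P = ⊤) (hCX : ⁅C, X⁆ ≤ S) (hXC : X ⊓ C ≤ S)
    (hX : X ≤ ⁅X, X⁆ ⊔ (X ⊓ C)) (hgen : normalClosure (X : Set M) ⊔ S = ⊤)
    (hcov : ∀ s ∈ S, ∃ x ∈ X, x ∈ S ∧ s⁻¹ * x ∈ C) (hidx : ¬ 2 ∣ (S ⊔ C).index) :
    (S ⊓ C).Normal ∧ ⁅C, (⊤ : Subgroup M)⁆ ≤ S ⊓ C ∧ Odd ((S ⊓ C).relIndex C) := by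
  have hCXC : ⁅C, X⁆ ≤ C := commutator_le_left C X
  set D := C ⊓ pCore 2 M ⊓ P with hD
  have hDC : D ≤ C := inf_le_left.trans inf_le_left
  have hDp : D ≤ pCore 2 M := inf_le_left.trans inf_le_right
  have hDP : D ≤ P := inf_le_right
  have hD2 : IsPGroup 2 D := (pCore_isPGroup 2).to_le hDp
  -- `[C, X] ≤ D`
  have h1 : ⁅C, X⁆ ≤ D := by
    refine le_inf (le_inf hCXC (le_core C _ hCXC (hS.to_le hCX) ?_)) (hCX.trans hSP)
    intro c hc
    have h2 : ⁅C, X⁆ ≤ (⁅C, X⁆).comap (MulAut.conj c).toMonoidHom := by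
      rw [commutator_le]
      intro c' hc' x hx
      show c * ⁅c', x⁆ * c⁻¹ ∈ ⁅C, X⁆
      have h3 : c * ⁅c', x⁆ * c⁻¹ = ⁅c * c', x⁆ * ⁅c, x⁆⁻¹ := by
        simp only [commutatorElement_def]; group
      rw [h3]
      exact mul_mem (commutator_mem_commutator (mul_mem hc hc') hx) (inv_mem (commutator_mem_commutator hc hx))
    exact fun x hx => h2 hx
  have h1' : ∀ c ∈ C, ∀ x ∈ X, ⁅c, x⁆ ∈ D := fun c hc x hx => h1 (commutator_mem_commutator hc hx)
  -- `D` is normal
  have hDn : D.Normal := by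
    have hX1 : ∀ x ∈ X, ∀ d ∈ D, x * d * x⁻¹ ∈ D := by
      intro x hx d hd
      have h2 : x * d * x⁻¹ = d * ⁅d⁻¹, x⁆ := by
        simp only [commutatorElement_def]; group
      rw [h2]
      exact mul_mem hd (h1' _ (inv_mem (hDC hd)) x hx)
    have hP1 : ∀ x ∈ P, ∀ d ∈ D, x * d * x⁻¹ ∈ D := by
      intro x hx d hd
      refine mem_inf.2 ⟨mem_inf.2 ⟨hC.conj_mem d (hDC hd) x, (pCore_normal (G := M) 2).conj_mem d (hDp hd) x⟩, ?_⟩
      exact mul_mem (mul_mem hx (hDP hd)) (inv_mem hx)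
    have aux : ∀ L : Subgroup M, (∀ x ∈ L, ∀ d ∈ D, x * d * x⁻¹ ∈ D) → L ≤ normalizer (D : Set M) := by
      intro L hL x hx
      rw [mem_normalizer_iff]
      intro d
      refine ⟨hL x hx d, fun hd => ?_⟩
      have h3 := hL x⁻¹ (inv_mem hx) _ hd
      rwa [show x⁻¹ * (x * d * x⁻¹) * x⁻¹⁻¹ = d by group] at h3
    have h2 : normalizer (D : Set M) = ⊤ := by
      rw [eq_top_iff, ← hXP]
      exact sup_le (aux X hX1) (aux P hP1)
    exact normalizer_eq_top_iff.1 h2
  -- `X ∩ C ≤ D`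
  have h2 : X ⊓ C ≤ D := by
    have h3 : IsPGroup 2 ↥((X ⊓ C) ⊔ D) := by
      have := hDn
      exact IsPGroup.to_sup_of_normal_right (hS.to_le hXC) hD2
    have h4 : (X ⊓ C) ⊔ D ≤ C := sup_le inf_le_right hDC
    have h5 : (X ⊓ C) ⊔ D ≤ pCore 2 M := by
      refine le_core C _ h4 h3 ?_
      intro c hc y hy
      obtain ⟨x, hx, d, hd, rfl⟩ := mem_sup_of_normal_right.1 hy
      have h6 : c * (x * d) * c⁻¹ = ⁅c, x⁆ * x * (c * d * c⁻¹) := by
        simp only [commutatorElement_def]; group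
      rw [h6]
      exact mul_mem (mul_mem (mem_sup_right (h1' c hc x hx.1)) (mem_sup_left hx))
        (mem_sup_right (hDn.conj_mem d hd c))
    exact le_inf (le_inf inf_le_right (le_sup_left.trans h5)) (hXC.trans hSP)
  -- `D ≤ S`
  have hDS : D ≤ S := by
    have h3 : IsPGroup 2 ↥(S ⊔ D) := by
      have := hDn
      exact IsPGroup.to_sup_of_normal_right hS hD2
    have h4 : S ⊔ D ≤ P := sup_le hSP hDP
    have h5 := relIndex_mul_relIndex S (S ⊔ D) P le_sup_left h4
    obtain ⟨n, hn⟩ := IsPGroup.iff_card.1 h3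
    have h6 : S.relIndex (S ⊔ D) ∣ 2 ^ n := by
      rw [← hn]
      exact relIndex_dvd_card S (S ⊔ D)
    obtain ⟨k, -, hk⟩ := (Nat.dvd_prime_pow Nat.prime_two).1 h6
    rcases Nat.eq_zero_or_pos k with h0 | hpos
    · rw [h0, pow_zero, relIndex_eq_one] at hk
      exact le_sup_right.trans hk
    · exfalso
      apply hSyl
      rw [← h5, hk]
      exact Dvd.dvd.mul_right (dvd_pow_self 2 hpos.ne') _
  -- the quotient
  have := hDn
  let π := QuotientGroup.mk' D
  have hπ : Function.Surjective π := QuotientGroup.mk'_surjective D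
  have hπk : ∀ x y : M, π x = π y ↔ x⁻¹ * y ∈ D := fun x y => QuotientGroup.eq
  have hcm : ∀ H : Subgroup M, D ≤ H → (H.map π).comap π = H := by
    intro H hH
    rw [comap_map_eq, QuotientGroup.ker_mk', sup_eq_left]
    exact hH
  have hCn : (C.map π).Normal := hC.map π hπ
  have hred := reduced (C.map π) (X.map π) (S.map π) (by
      rintro _ ⟨c, hc, rfl⟩ _ ⟨x, hx, rfl⟩
      rw [← map_mul, ← map_mul, hπk]
      have h3 : (c * x)⁻¹ * (x * c) = ⁅x⁻¹, c⁻¹⁆ := by
        simp only [commutatorElement_def]; group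
      rw [h3]
      rw [← commutatorElement_inv]
      exact inv_mem (h1' _ (inv_mem hc) _ (inv_mem hx))) (by
      rw [eq_bot_iff]
      rintro _ ⟨⟨x, hx, rfl⟩, c, hc, h3⟩
      have h4 : c⁻¹ * x ∈ D := (hπk c x).1 h3
      have h5 : x ∈ C := by
        have := mul_mem hc (hDC h4)
        rwa [mul_inv_cancel_left] at this
      have h6 : x ∈ D := h2 ⟨hx, h5⟩
      rw [mem_bot]
      exact (QuotientGroup.eq_one_iff x).2 h6) (by
      rw [← map_commutator]
      rintro _ ⟨x, hx, rfl⟩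
      have h3 : x ∈ ⁅X, X⁆ ⊔ D := (sup_le_sup le_rfl h2) (hX hx)
      obtain ⟨y, hy, d, hd, rfl⟩ := mem_sup_of_normal_right.1 h3
      refine ⟨y, hy, ?_⟩
      rw [hπk, inv_mul_cancel_left]
      exact hd) (by
      rw [eq_top_iff]
      intro g _
      obtain ⟨g, rfl⟩ := hπ g
      obtain ⟨r, hr, s, hs, rfl⟩ := mem_sup_of_normal_left.1
        (show g ∈ normalClosure (X : Set M) ⊔ S by rw [hgen]; exact mem_top g)
      rw [map_mul]
      refine mul_mem (mem_sup_left ?_) (mem_sup_right ⟨s, hs, rfl⟩)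
      have h3 : normalClosure (X : Set M) ≤ (normalClosure ((X.map π : Subgroup (M ⧸ D)) : Set (M ⧸ D))).comap π := by
        apply normalClosure_le_normal
        exact fun x hx => subset_normalClosure ⟨x, hx, rfl⟩
      exact h3 hr) (by
      rintro _ ⟨s, hs, rfl⟩
      obtain ⟨x, hx, hxS, h3⟩ := hcov s hs
      refine ⟨π x, ⟨x, hx, rfl⟩, ⟨x, hxS, rfl⟩, s⁻¹ * x, h3, ?_⟩
      rw [map_mul, map_inv]) (by
      rw [← Subgroup.map_sup, index_map_eq (S ⊔ C) hπ (by
        rw [QuotientGroup.ker_mk']; exact hDS.trans le_sup_left)]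
      exact hidx) (by
      intro N hNC hNS hNn
      have h3 : N.comap π ≤ C := (comap_mono hNC).trans (hcm C hDC).le
      have h4 : N.comap π ≤ S := (comap_mono hNS).trans (hcm S hDS).le
      have h5 : N.comap π ≤ pCore 2 M := by
        refine le_core C _ h3 (hS.to_le h4) fun c hc x hx => ?_
        rw [mem_comap, map_mul, map_mul, map_inv]
        exact hNn _ ⟨c, hc, rfl⟩ _ hx
      have h6 : N.comap π ≤ D := le_inf (le_inf h3 h5) (h4.trans hSP)
      rw [eq_bot_iff]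
      intro g hg
      obtain ⟨g, rfl⟩ := hπ g
      rw [mem_bot]
      exact (QuotientGroup.eq_one_iff g).2 (h6 hg))
  obtain ⟨hr1, hr2, hr3⟩ := hred
  have hSC : S ⊓ C = D := by
    apply le_antisymm
    · rintro x ⟨hxS, hxC⟩
      have h3 : π x ∈ S.map π ⊓ C.map π := ⟨⟨x, hxS, rfl⟩, ⟨x, hxC, rfl⟩⟩
      rw [hr1, mem_bot] at h3
      exact (QuotientGroup.eq_one_iff x).1 h3
    · exact le_inf hDS hDC
  rw [hSC]
  refine ⟨hDn, ?_, ?_⟩
  · rw [commutator_le]
    intro c hc g _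
    have h3 := mem_center_iff.1 (hr2 ⟨c, hc, rfl⟩) (π g)
    rw [← map_mul, ← map_mul, hπk] at h3
    have h4 : ⁅c, g⁆ = (g * c) * ((g * c)⁻¹ * (c * g)) * (g * c)⁻¹ := by
      simp only [commutatorElement_def]; group
    rw [h4]
    exact hDn.conj_mem _ h3 _
  · have h3 : D.relIndex C = Nat.card (C.map π) := by
      have h4 := relIndex_map_map π D C
      have h5 : D.map π = ⊥ := by
        rw [Subgroup.map_eq_bot_iff, QuotientGroup.ker_mk']
      rw [h5, relIndex_bot_left, QuotientGroup.ker_mk', sup_idem, sup_eq_left.2 hDC] at h4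
      exact h4.symm
    rw [h3]
    exact hr3

/-! ### The kernel does not disturb the braid relation -/

/-- two involutions satisfying the braid relation of length four up to a central element of odd order -/
theorem braid_four_aux {Q : Type*} [Group Q] {n m z : Q} (hm : m * m = 1)
    (hmz : m * z = z * m) {k : ℕ} (hk : z ^ (2 * k + 1) = 1) (e : n * m * n * m = m * n * m * n * z) : z = 1 := by
  have hm' : m⁻¹ = m := inv_eq_of_mul_eq_one_left hm
  have h1 : m * (n * m * n * m) * m⁻¹ = m * (m * n * m * n * z) * m⁻¹ := by rw [e]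
  have h2 : m * (n * m * n * m) * m⁻¹ = m * n * m * n := by group
  have h3 : m * (m * n * m * n * z) * m⁻¹ = n * m * n * m * z := by
    calc m * (m * n * m * n * z) * m⁻¹ = (m * m) * n * m * n * (z * m⁻¹) := by group
      _ = n * m * n * m * z := by rw [hm, hm', ← hmz]; group
  rw [h2, h3, e] at h1
  have h4 : z * z = 1 := by
    have h5 : m * n * m * n * (z * z) = m * n * m * n * 1 := by rw [mul_one, ← mul_assoc]; exact h1.symm
    exact mul_left_cancel h5
  rwa [pow_succ, pow_mul, pow_two, h4, one_pow, one_mul] at hk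

/-- two involutions satisfying the braid relation of length three up to a central element of odd order -/
theorem braid_three_aux {Q : Type*} [Group Q] {n m z : Q} (hn : n * n = 1) (hm : m * m = 1) (hnz : n * z = z * n)
    (hmz : m * z = z * m) {k : ℕ} (hk : z ^ (2 * k + 1) = 1) (e : n * m * n = m * n * m * z) : z = 1 := by
  have hm' : m⁻¹ = m := inv_eq_of_mul_eq_one_left hm
  have hn' : n⁻¹ = n := inv_eq_of_mul_eq_one_left hn
  have h1 : (n * m * n)⁻¹ = (m * n * m * z)⁻¹ := by rw [e]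
  have h2 : (n * m * n)⁻¹ = n * m * n := by
    rw [_root_.mul_inv_rev, _root_.mul_inv_rev, hm', hn', mul_assoc]
  have h3 : (m * n * m * z)⁻¹ = m * n * m * z⁻¹ := by
    have h4 : m * n * m * z = z * (m * n * m) := by
      calc m * n * m * z = m * n * (m * z) := by group
        _ = m * (n * z) * m := by rw [hmz]; group
        _ = (m * z) * n * m := by rw [hnz]; group
        _ = z * (m * n * m) := by rw [hmz]; group
    rw [h4, _root_.mul_inv_rev, _root_.mul_inv_rev, _root_.mul_inv_rev, hm', hn']; group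
  rw [h2, h3, e] at h1
  have h4 : z = z⁻¹ := mul_left_cancel h1
  have h5 : z * z = 1 := by
    nth_rewrite 2 [h4]
    exact mul_inv_cancel z
  rwa [pow_succ, pow_mul, pow_two, h5, one_pow, one_mul] at hk

/-- the data: `C` central and odd modulo `D ≤ H`, `n` and `m` normalise `H`, their squares are in `H` -/
structure Br (C D H : Subgroup M) (n m : M) : Prop where
  le : D ≤ H
  comm : ∀ c ∈ C, ∀ g : M, ⁅c, g⁆ ∈ D
  odd : ∀ c ∈ C, ∃ k : ℕ, c ^ (2 * k + 1) ∈ D
  n_H : ∀ h ∈ H, n * h * n⁻¹ ∈ H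
  m_H : ∀ h ∈ H, m * h * m⁻¹ ∈ H
  n_sq : n * n ∈ H
  m_sq : m * m ∈ H

namespace Br

variable {C D H : Subgroup M} {n m : M} (h : Br C D H n m)
include h

omit h in
theorem norm {x : M} (hx : ∀ y ∈ H, x * y * x⁻¹ ∈ H) (hx2 : x * x ∈ H) : x ∈ normalizer (H : Set M) := by
  rw [mem_normalizer_iff]
  intro y
  refine ⟨hx y, fun hy => ?_⟩
  have h1 := hx _ hy
  have h2 : y = (x * x)⁻¹ * (x * (x * y * x⁻¹) * x⁻¹) * (x * x) := by group
  rw [h2]
  exact mul_mem (mul_mem (inv_mem hx2) h1) hx2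

theorem C_norm {z : M} (hz : z ∈ C) : z ∈ normalizer (H : Set M) := by
  rw [mem_normalizer_iff]
  intro y
  have h1 : z * y * z⁻¹ = ⁅z, y⁆ * y := by
    simp only [commutatorElement_def]; group
  rw [h1]
  exact ⟨fun hy => mul_mem (h.le (h.comm z hz y)) hy, fun hy => by
    have := mul_mem (inv_mem (h.le (h.comm z hz y))) hy
    rwa [inv_mul_cancel_left] at this⟩

/-- **the braid relation of length four** -/
theorem four {y z : M} (hy : y ∈ H) (hz : z ∈ C) (e : n * m * n * m = m * n * m * n * y * z) : z ∈ H := by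
  let φ := QuotientGroup.mk' (H.subgroupOf (normalizer (H : Set M)))
  have hφ : ∀ x, φ x = 1 ↔ (x : M) ∈ H := fun x => by
    show ((x : ↥(normalizer (H : Set M)) ⧸ H.subgroupOf (normalizer (H : Set M))) = 1) ↔ _
    rw [QuotientGroup.eq_one_iff, mem_subgroupOf]
  let n' : ↥(normalizer (H : Set M)) := ⟨n, norm h.n_H h.n_sq⟩
  let m' : ↥(normalizer (H : Set M)) := ⟨m, norm h.m_H h.m_sq⟩
  let y' : ↥(normalizer (H : Set M)) := ⟨y, le_normalizer hy⟩
  let z' : ↥(normalizer (H : Set M)) := ⟨z, h.C_norm hz⟩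
  suffices hs : φ z' = 1 from (hφ z').1 hs
  have hy' : φ y' = 1 := (hφ y').2 hy
  have hcm : ∀ x : ↥(normalizer (H : Set M)), φ x * φ z' = φ z' * φ x := by
    intro x
    have h1 : φ (⁅z', x⁆) = 1 := (hφ _).2 (h.le (h.comm z hz x))
    rw [commutatorElement_def, map_mul, map_mul, map_mul, map_inv, map_inv, mul_inv_eq_one,
      mul_inv_eq_iff_eq_mul] at h1
    exact h1.symm
  obtain ⟨k, hk⟩ := h.odd z hz
  refine braid_four_aux (n := φ n') (m := φ m') (z := φ z') (k := k) ?_ (hcm _) ?_ ?_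
  · rw [← map_mul]; exact (hφ _).2 h.m_sq
  · rw [← map_pow]; exact (hφ _).2 (h.le hk)
  · have h1 : n' * m' * n' * m' = m' * n' * m' * n' * y' * z' := Subtype.ext e
    have h2 := congrArg φ h1
    simp only [map_mul, hy', mul_one] at h2
    exact h2

/-- **the braid relation of length three** -/
theorem three {y z : M} (hy : y ∈ H) (hz : z ∈ C) (e : n * m * n = m * n * m * y * z) : z ∈ H := by
  let φ := QuotientGroup.mk' (H.subgroupOf (normalizer (H : Set M)))
  have hφ : ∀ x, φ x = 1 ↔ (x : M) ∈ H := fun x => by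
    show ((x : ↥(normalizer (H : Set M)) ⧸ H.subgroupOf (normalizer (H : Set M))) = 1) ↔ _
    rw [QuotientGroup.eq_one_iff, mem_subgroupOf]
  let n' : ↥(normalizer (H : Set M)) := ⟨n, norm h.n_H h.n_sq⟩
  let m' : ↥(normalizer (H : Set M)) := ⟨m, norm h.m_H h.m_sq⟩
  let y' : ↥(normalizer (H : Set M)) := ⟨y, le_normalizer hy⟩
  let z' : ↥(normalizer (H : Set M)) := ⟨z, h.C_norm hz⟩
  suffices hs : φ z' = 1 from (hφ z').1 hs
  have hy' : φ y' = 1 := (hφ y').2 hy
  have hcm : ∀ x : ↥(normalizer (H : Set M)), φ x * φ z' = φ z' * φ x := by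
    intro x
    have h1 : φ (⁅z', x⁆) = 1 := (hφ _).2 (h.le (h.comm z hz x))
    rw [commutatorElement_def, map_mul, map_mul, map_mul, map_inv, map_inv, mul_inv_eq_one,
      mul_inv_eq_iff_eq_mul] at h1
    exact h1.symm
  obtain ⟨k, hk⟩ := h.odd z hz
  refine braid_three_aux (n := φ n') (m := φ m') (z := φ z') (k := k) ?_ ?_ (hcm _) (hcm _) ?_ ?_
  · rw [← map_mul]; exact (hφ _).2 h.n_sq
  · rw [← map_mul]; exact (hφ _).2 h.m_sq
  · rw [← map_pow]; exact (hφ _).2 (h.le hk)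
  · have h1 : n' * m' * n' = m' * n' * m' * y' * z' := Subtype.ext e
    have h2 := congrArg φ h1
    simp only [map_mul, hy', mul_one] at h2
    exact h2

end Br

end Cfsg.Agent.Omega.HSplit.Kernel
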