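import Cfsg.Agent.ParSys.ResA

/-!
# The stabilisers of a plane and of a point in `PSL₃`, and the normaliser of the unitriangular group
-/

set_option autoImplicit false

namespace Cfsg.Agent.Omega.HSplit.PslThree

open Subgroup Matrix Cfsg.Agent.ParSys

variable {F : Type*} [Field F]

/-- the quotient map -/
abbrev mk (g : SpecialLinearGroup (Fin 3) F) : ProjectiveSpecialLinearGroup (Fin 3) F := QuotientGroup.mk g

theorem inv_val (g : SpecialLinearGroup (Fin 3) F) : (g⁻¹).1 = adjugate g.1 := rfl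

/-- the stabiliser of the plane `⟨e₀, e₁⟩` in `SL₃` -/
def plS (F : Type*) [Field F] : Subgroup (SpecialLinearGroup (Fin 3) F) where
  carrier := {g | g.1 2 0 = 0 ∧ g.1 2 1 = 0}
  one_mem' := by simp [sl_one]
  mul_mem' := by
    rintro g h ⟨h1, h2⟩ ⟨h3, h4⟩
    show (g * h).1 2 0 = 0 ∧ (g * h).1 2 1 = 0
    rw [sl_mul, Matrix.mul_apply, Matrix.mul_apply, Fin.sum_univ_three, Fin.sum_univ_three, h1, h2, h3, h4]
    simp
  inv_mem' := by
    rintro g ⟨h1, h2⟩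
    show (g⁻¹).1 2 0 = 0 ∧ (g⁻¹).1 2 1 = 0
    rw [inv_val, adjugate_fin_three]
    simp [h1, h2]

/-- the stabiliser of the point `⟨e₀⟩` in `SL₃` -/
def ptS (F : Type*) [Field F] : Subgroup (SpecialLinearGroup (Fin 3) F) where
  carrier := {g | g.1 1 0 = 0 ∧ g.1 2 0 = 0}
  one_mem' := by simp [sl_one]
  mul_mem' := by
    rintro g h ⟨h1, h2⟩ ⟨h3, h4⟩
    show (g * h).1 1 0 = 0 ∧ (g * h).1 2 0 = 0
    rw [sl_mul, Matrix.mul_apply, Matrix.mul_apply, Fin.sum_univ_three, Fin.sum_univ_three, h1, h2, h3, h4]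
    simp
  inv_mem' := by
    rintro g ⟨h1, h2⟩
    show (g⁻¹).1 1 0 = 0 ∧ (g⁻¹).1 2 0 = 0
    rw [inv_val, adjugate_fin_three]
    simp [h1, h2]

theorem center_entries {z : SpecialLinearGroup (Fin 3) F} (hz : z ∈ Subgroup.center (SpecialLinearGroup (Fin 3) F)) :
    ∃ r : F, z.1 = Matrix.scalar (Fin 3) r := by
  obtain ⟨r, -, hr⟩ := Matrix.SpecialLinearGroup.mem_center_iff.1 hz
  exact ⟨r, hr.symm⟩

theorem center_le_plS : Subgroup.center (SpecialLinearGroup (Fin 3) F) ≤ plS F := by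
  intro z hz
  obtain ⟨r, hr⟩ := center_entries hz
  show z.1 2 0 = 0 ∧ z.1 2 1 = 0
  rw [hr, Matrix.scalar_apply]
  simp

theorem center_le_ptS : Subgroup.center (SpecialLinearGroup (Fin 3) F) ≤ ptS F := by
  intro z hz
  obtain ⟨r, hr⟩ := center_entries hz
  show z.1 1 0 = 0 ∧ z.1 2 0 = 0
  rw [hr, Matrix.scalar_apply]
  simp

/-- the stabiliser of the plane in `PSL₃` -/
def As (F : Type*) [Field F] : Subgroup (ProjectiveSpecialLinearGroup (Fin 3) F) :=
  (plS F).map (QuotientGroup.mk' (Subgroup.center (SpecialLinearGroup (Fin 3) F)))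

/-- the stabiliser of the point in `PSL₃` -/
def At (F : Type*) [Field F] : Subgroup (ProjectiveSpecialLinearGroup (Fin 3) F) :=
  (ptS F).map (QuotientGroup.mk' (Subgroup.center (SpecialLinearGroup (Fin 3) F)))

theorem mem_map_mk {K : Subgroup (SpecialLinearGroup (Fin 3) F)}
    (hK : Subgroup.center (SpecialLinearGroup (Fin 3) F) ≤ K) {g : SpecialLinearGroup (Fin 3) F} :
    mk g ∈ K.map (QuotientGroup.mk' (Subgroup.center (SpecialLinearGroup (Fin 3) F))) ↔ g ∈ K := by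
  constructor
  · rintro ⟨k, hk, h⟩
    have h1 : k⁻¹ * g ∈ Subgroup.center (SpecialLinearGroup (Fin 3) F) := QuotientGroup.eq.1 h
    have h2 := mul_mem hk (hK h1)
    rwa [mul_inv_cancel_left] at h2
  · exact fun h => ⟨g, h, rfl⟩

theorem mem_As {g : SpecialLinearGroup (Fin 3) F} : mk g ∈ As F ↔ g.1 2 0 = 0 ∧ g.1 2 1 = 0 :=
  mem_map_mk center_le_plS

theorem mem_At {g : SpecialLinearGroup (Fin 3) F} : mk g ∈ At F ↔ g.1 1 0 = 0 ∧ g.1 2 0 = 0 :=
  mem_map_mk center_le_ptS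

/-- an upper triangular matrix normalises the unitriangular group -/
theorem conj_US {g : SpecialLinearGroup (Fin 3) F} (h : UpT (g : GL (Fin 3) F)) {u : SpecialLinearGroup (Fin 3) F}
    (hu : u ∈ US F) : g * u * g⁻¹ ∈ US F := by
  obtain ⟨a, b, c, rfl⟩ := hu
  obtain ⟨h1, h2, h3⟩ := h
  change g.1 1 0 = 0 at h1
  change g.1 2 0 = 0 at h2
  change g.1 2 1 = 0 at h3
  have hdet := g.2
  rw [Matrix.det_fin_three, h1, h2, h3] at hdet
  have hd : g.1 0 0 * g.1 1 1 * g.1 2 2 = 1 := by linear_combination hdet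
  have h11 : g.1 1 1 ≠ 0 := by
    intro h0
    rw [h0] at hd
    simp at hd
  have h22 : g.1 2 2 ≠ 0 := by
    intro h0
    rw [h0] at hd
    simp at hd
  refine ⟨g.1 0 0 * a / g.1 1 1, g.1 1 1 * b / g.1 2 2,
    (g.1 0 0 * c + g.1 0 1 * b - g.1 0 0 * a / g.1 1 1 * g.1 1 2) / g.1 2 2, ?_⟩
  rw [mul_inv_eq_iff_eq_mul]
  apply sl_ext
  rw [sl_mul, sl_mul, um_val, um_val]
  ext x y
  rw [Matrix.mul_apply, Matrix.mul_apply, Fin.sum_univ_three, Fin.sum_univ_three]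
  fin_cases x <;> fin_cases y <;> simp [h1, h2, h3] <;> field_simp <;> ring

/-- **the normaliser of the unitriangular subgroup of `PSL₃`** -/
theorem mem_norm [CharP F 2] {g : SpecialLinearGroup (Fin 3) F} :
    mk g ∈ normalizer (UP F : Set (ProjectiveSpecialLinearGroup (Fin 3) F)) ↔ UpT (g : GL (Fin 3) F) := by
  constructor
  · intro hx
    apply upT_of_norm
    intro u hu
    obtain ⟨v, hv, h1⟩ := (Subgroup.mem_normalizer_iff.1 hx (QuotientGroup.mk u)).1 ⟨u, hu, rfl⟩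
    have h2 : (QuotientGroup.mk v : ProjectiveSpecialLinearGroup (Fin 3) F) = QuotientGroup.mk (g * u * g⁻¹) := h1
    rw [QuotientGroup.eq] at h2
    have h3 := (inferInstance : (Subgroup.center (SpecialLinearGroup (Fin 3) F)).Normal).conj_mem _ h2 v
    have e : v * (v⁻¹ * (g * u * g⁻¹)) * v⁻¹ = g * u * g⁻¹ * v⁻¹ := by group
    rw [e] at h3
    refine ⟨v, hv, ((g * u * g⁻¹ * v⁻¹ : SpecialLinearGroup (Fin 3) F) : GL (Fin 3) F),
      (SpecialLinearGroup.toGL_mem_center_iff _).2 h3, ?_⟩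
    rw [← map_mul, ← map_inv, ← map_mul, ← map_mul]
    congr 1
    group
  · intro h
    rw [mem_normalizer_iff]
    have key : ∀ g : SpecialLinearGroup (Fin 3) F, UpT (g : GL (Fin 3) F) → ∀ x ∈ UP F, mk g * x * (mk g)⁻¹ ∈ UP F := by
      rintro g hg _ ⟨u, hu, rfl⟩
      exact ⟨g * u * g⁻¹, conj_US hg hu, rfl⟩
    intro x
    refine ⟨key g h x, fun hx => ?_⟩
    have hinv : UpT ((g⁻¹ : SpecialLinearGroup (Fin 3) F) : GL (Fin 3) F) := by
      obtain ⟨h1, h2, h3⟩ := h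
      have hp : g⁻¹ ∈ plS F := inv_mem (show g ∈ plS F from ⟨h2, h3⟩)
      have hq : g⁻¹ ∈ ptS F := inv_mem (show g ∈ ptS F from ⟨h1, h2⟩)
      exact ⟨hq.1, hq.2, hp.2⟩
    have h1 := key _ hinv _ hx
    have e : mk g⁻¹ * (mk g * x * (mk g)⁻¹) * (mk g⁻¹)⁻¹ = x := by
      have : (mk g⁻¹ : ProjectiveSpecialLinearGroup (Fin 3) F) = (mk g)⁻¹ := rfl
      rw [this]; group
    rwa [e] at h1

theorem norm_le_As [CharP F 2] : normalizer (UP F : Set (ProjectiveSpecialLinearGroup (Fin 3) F)) ≤ As F := by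
  intro x hx
  obtain ⟨g, rfl⟩ := QuotientGroup.mk_surjective x
  obtain ⟨h1, h2, h3⟩ := mem_norm.1 hx
  exact mem_As.2 ⟨h2, h3⟩

theorem norm_le_At [CharP F 2] : normalizer (UP F : Set (ProjectiveSpecialLinearGroup (Fin 3) F)) ≤ At F := by
  intro x hx
  obtain ⟨g, rfl⟩ := QuotientGroup.mk_surjective x
  obtain ⟨h1, h2, h3⟩ := mem_norm.1 hx
  exact mem_At.2 ⟨h1, h2⟩

theorem inf_le_norm [CharP F 2] : As F ⊓ At F ≤ normalizer (UP F : Set (ProjectiveSpecialLinearGroup (Fin 3) F)) := by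
  rintro x ⟨hx1, hx2⟩
  obtain ⟨g, rfl⟩ := QuotientGroup.mk_surjective x
  have h1 := mem_As.1 hx1
  have h2 := mem_At.1 hx2
  exact mem_norm.2 ⟨h2.1, h1.1, h1.2⟩

end Cfsg.Agent.Omega.HSplit.PslThree
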