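import Cfsg.Agent.Omega.HSplit.LinAAct
import Cfsg.Agent.Omega.HSplit.PslThree
import Cfsg.Agent.Omega.HSplit.Kernel
import Cfsg.Agent.ParSys.KerGen

/-!
# The residue of type `(α)`: `ResA` (#14148, 8 and 10.1; #14331 (α); #15333 (r8))

`OutA Sg v m W O Pd E U B n t` : the data `In` and a subgroup `B`; with `X = W ⊔ W^n`, `P i = X ⊔ B`, `P j = E ⊔ B`
the residue of `P i`, `P j` is `ResA` (`OutA.resA`).
-/

set_option autoImplicit false
set_option linter.unusedSectionVars false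

namespace Cfsg.Agent.Omega.HSplit.LinA

open Subgroup Cfsg.Agent.Lib Cfsg.Agent.Lib.SL2Mat Matrix Cfsg.Agent.ParSys Cfsg.Agent.Omega.HSplit.PslThree
open scoped commutatorElement

variable {F : Type*} [Field F] {G : Type*} [Group G] {Sg : Subgroup G}

/-- the data of the residue -/
structure OutA (Sg : Subgroup G) (v : F → F → G) (m : G → F × F) (W O Pd E U B : Subgroup G) (n t : G) : Prop where
  inp : In Sg v m W O Pd E U n t
  E_gen : ∀ N : Subgroup G, (∀ e ∈ E, ∀ u ∈ U, e * u * e⁻¹ ∈ N) → E ≤ N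
  B_le : B ≤ (W ⊔ cn n W) ⊔ Pd
  U_B : U ≤ B
  B_U : ∀ b ∈ B, ∀ u ∈ U, b * u * b⁻¹ ∈ U
  B_N : ∀ b ∈ B, ∀ c d, ∃ c' d', b * v c d * b⁻¹ = v c' d'
  B_R : ∀ b ∈ B, ∀ c, ∃ c', b * v c 0 * b⁻¹ = v c' 0
  B_E : ∀ b ∈ B, ∀ e ∈ E, b * e * b⁻¹ ∈ E
  X_nor : ∀ g ∈ (W ⊔ cn n W) ⊔ Pd, (∀ c d, ∃ c' d', g * v c d * g⁻¹ = v c' d') →
    ∀ x ∈ W ⊔ cn n W, g * x * g⁻¹ ∈ W ⊔ cn n W
  X_ker : ∀ x ∈ W ⊔ cn n W, (∀ a ∈ Sg, x * a * x⁻¹ = a) → x ∈ U
  bX : ∀ x ∈ (W ⊔ cn n W) ⊔ U, x ∈ normalizer (U : Set G) → x ∈ B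
  bE : ∀ x ∈ E, x ∈ normalizer (U : Set G) → x ∈ B

/-- products with a normalising subgroup -/
theorem exists_mul_of_norm {H K : Subgroup G} (h : ∀ k ∈ K, ∀ x ∈ H, k * x * k⁻¹ ∈ H) {x : G} (hx : x ∈ H ⊔ K) :
    ∃ a ∈ H, ∃ b ∈ K, x = a * b := by
  let T : Subgroup G :=
    { carrier := {x | ∃ a ∈ H, ∃ b ∈ K, x = a * b}
      one_mem' := ⟨1, one_mem _, 1, one_mem _, (one_mul 1).symm⟩
      mul_mem' := by
        rintro _ _ ⟨a, ha, b, hb, rfl⟩ ⟨c, hc, d, hd, rfl⟩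
        exact ⟨a * (b * c * b⁻¹), mul_mem ha (h b hb c hc), b * d, mul_mem hb hd, by group⟩
      inv_mem' := by
        rintro _ ⟨a, ha, b, hb, rfl⟩
        refine ⟨b⁻¹ * a⁻¹ * b⁻¹⁻¹, h _ (inv_mem hb) _ (inv_mem ha), b⁻¹, inv_mem hb, by group⟩ }
  have h1 : H ⊔ K ≤ T := sup_le (fun a ha => ⟨a, ha, 1, one_mem _, (mul_one a).symm⟩)
    (fun b hb => ⟨1, one_mem _, b, hb, (one_mul b).symm⟩)
  exact h1 hx

namespace In

variable {v : F → F → G} {m : G → F × F} {W O Pd E U : Subgroup G} {n t : G} (D : In Sg v m W O Pd E U n t)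
include D

theorem U_sup : U ≤ (W ⊔ cn n W) ⊔ E := fun _ hu => mem_sup_right (D.U_E hu)

theorem XE_le : (W ⊔ cn n W) ⊔ E ≤ (W ⊔ cn n W) ⊔ Pd := sup_le_sup le_rfl D.E_le

theorem W_U : W ≤ U := D.W_le.trans D.O_le

theorem X_N {x : G} (hx : x ∈ W ⊔ cn n W) (b c : F) : ∃ b' c', x * v b c * x⁻¹ = v b' c' := by
  obtain ⟨b', c', h⟩ := D.X_act hx (D.v_mem b c)
  exact ⟨b + b', c + c', by rw [h, D.v_add]⟩

theorem U_N {x : G} (hx : x ∈ U) (b c : F) : ∃ b' c', x * v b c * x⁻¹ = v b' c' := by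
  obtain ⟨y, hy, -, hyx⟩ := D.U_X x hx
  obtain ⟨l, hl⟩ := D.O_act _ hyx (v b c) (D.v_mem b c)
  obtain ⟨b', c', h⟩ := D.X_N hy (b + l) c
  refine ⟨b', c', ?_⟩
  have e : x * v b c * x⁻¹ = y * ((y⁻¹ * x) * v b c * (y⁻¹ * x)⁻¹) * y⁻¹ := by group
  rw [e, hl, ← D.v_add, add_zero, h]

variable [Finite G] [CharP F 2] {L : Subgroup G} (hL : L ≤ (W ⊔ cn n W) ⊔ Pd)

theorem rho_of_acts {x : ↥L} {A : SpecialLinearGroup (Fin 3) F} (h : D.Acts x A) :
    D.rho hL x = (A : GL (Fin 3) F) := by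
  apply Units.ext
  obtain ⟨h1, h2⟩ := h
  exact D.dat.rho_eq (g := ⟨⟨x, D.sup_Sg (hL x.2)⟩, D.mem_lin (hL x.2)⟩) h2

/-- the elements of `U` are upper triangular -/
theorem uniT {x : ↥L} (hx : (x : G) ∈ U) : UniT (D.rho hL x) := by
  have h1 := D.col_zero hL (x := x) fun b => ⟨b, D.P_R _ (D.U_le hx) b⟩
  have h2 := D.row_two hL (x := x) fun b c => D.U_N hx b c
  have hU : UpT (D.rho hL x) := ⟨h1.1, h1.2, h2.2⟩
  obtain ⟨k, hk⟩ := D.isP ⟨x, hx⟩
  have hk' : x ^ 2 ^ k = 1 := by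
    apply Subtype.ext
    exact congrArg (Subtype.val : ↥U → G) hk
  have h3 := hU.pow (2 ^ k)
  rw [← map_pow, hk', map_one] at h3
  have hp : ∀ a : F, 1 = a ^ 2 ^ k → a = 1 := by
    intro a ha
    have : ExpChar F 2 := ExpChar.prime Nat.prime_two
    refine iterateFrobenius_inj F 2 k ?_
    rw [iterateFrobenius_def, iterateFrobenius_def, ← ha, one_pow]
  refine ⟨hU, hp _ ?_, hp _ ?_, hp _ ?_⟩
  · simpa using h3.2.1
  · simpa using h3.2.2.1
  · simpa using h3.2.2.2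

theorem det_uniT {g : GL (Fin 3) F} (h : UniT g) : g.1.det = 1 := by
  have h1 := h.eq_um
  rw [h1]
  exact (um _ _ _).2

/-- the determinant is 1 on `⟨X, E⟩` -/
theorem det_one (h : ∀ N : Subgroup G, (∀ e ∈ E, ∀ u ∈ U, e * u * e⁻¹ ∈ N) → E ≤ N)
    (x : ↥((W ⊔ cn n W) ⊔ E)) : (D.rho D.XE_le x).1.det = 1 := by
  let f : ↥((W ⊔ cn n W) ⊔ E) →* Fˣ := GeneralLinearGroup.det.comp (D.rho D.XE_le)
  have hf : ∀ y, f y = 1 ↔ (D.rho D.XE_le y).1.det = 1 := fun y => by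
    rw [Units.ext_iff]; rfl
  have hT : ∀ g : G, g ∈ f.ker.map (Subgroup.subtype _) ↔ ∃ h, f ⟨g, h⟩ = 1 := by
    intro g
    constructor
    · rintro ⟨y, hy, rfl⟩
      exact ⟨y.2, hy⟩
    · rintro ⟨h, hg⟩
      exact ⟨_, hg, rfl⟩
  have hU : ∀ e ∈ (W ⊔ cn n W) ⊔ E, ∀ u ∈ U, e * u * e⁻¹ ∈ f.ker.map (Subgroup.subtype _) := by
    intro e he u hu
    rw [hT]
    have hu' := D.U_sup hu
    refine ⟨mul_mem (mul_mem he hu') (inv_mem he), ?_⟩
    have e1 : (⟨e * u * e⁻¹, mul_mem (mul_mem he hu') (inv_mem he)⟩ : ↥((W ⊔ cn n W) ⊔ E)) =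
        ⟨e, he⟩ * ⟨u, hu'⟩ * ⟨e, he⟩⁻¹ := rfl
    rw [e1, map_mul, map_mul, map_inv, mul_comm (f _), mul_inv_cancel_right, hf]
    exact D.det_uniT (D.uniT D.XE_le hu)
  have h1 : (W ⊔ cn n W) ⊔ E ≤ f.ker.map (Subgroup.subtype _) := by
    refine sup_le (sup_le ?_ ?_) (h _ fun e he u hu => hU e (mem_sup_right he) u hu)
    · intro w hw
      have := hU 1 (one_mem _) w (D.W_U hw)
      simpa using this
    · rintro _ ⟨w, hw, rfl⟩
      exact hU n (mem_sup_left D.n_mem) w (D.W_U hw)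
  obtain ⟨hx, h2⟩ := (hT x).1 (h1 x.2)
  exact (hf x).1 h2

/-- the map to `SL₃` -/
noncomputable def toSL (h : ∀ N : Subgroup G, (∀ e ∈ E, ∀ u ∈ U, e * u * e⁻¹ ∈ N) → E ≤ N) :
    ↥((W ⊔ cn n W) ⊔ E) →* SpecialLinearGroup (Fin 3) F where
  toFun x := ⟨(D.rho D.XE_le x).1, D.det_one h x⟩
  map_one' := by
    apply Subtype.ext
    show (D.rho D.XE_le 1).1 = 1
    rw [map_one]; rfl
  map_mul' x y := by
    apply Subtype.ext
    show (D.rho D.XE_le (x * y)).1 = (D.rho D.XE_le x).1 * (D.rho D.XE_le y).1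
    rw [map_mul]; rfl

theorem toSL_val (h : ∀ N : Subgroup G, (∀ e ∈ E, ∀ u ∈ U, e * u * e⁻¹ ∈ N) → E ≤ N)
    (x : ↥((W ⊔ cn n W) ⊔ E)) : (D.toSL h x).1 = (D.rho D.XE_le x).1 := rfl

theorem toSL_GL (h : ∀ N : Subgroup G, (∀ e ∈ E, ∀ u ∈ U, e * u * e⁻¹ ∈ N) → E ≤ N)
    (x : ↥((W ⊔ cn n W) ⊔ E)) : ((D.toSL h x : SpecialLinearGroup (Fin 3) F) : GL (Fin 3) F) = D.rho D.XE_le x :=
  Units.ext rfl

theorem toSL_of_acts (h : ∀ N : Subgroup G, (∀ e ∈ E, ∀ u ∈ U, e * u * e⁻¹ ∈ N) → E ≤ N)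
    {x : ↥((W ⊔ cn n W) ⊔ E)} {A : SpecialLinearGroup (Fin 3) F} (hx : D.Acts x A) : D.toSL h x = A := by
  apply SpecialLinearGroup.toGL_injective
  rw [toSL_GL, D.rho_of_acts D.XE_le hx]

theorem toSL_surj (h : ∀ N : Subgroup G, (∀ e ∈ E, ∀ u ∈ U, e * u * e⁻¹ ∈ N) → E ≤ N)
    (A : SpecialLinearGroup (Fin 3) F) : ∃ x, D.toSL h x = A := by
  obtain ⟨x, hx, hA⟩ := D.acts_SL A
  exact ⟨⟨x, hx⟩, D.toSL_of_acts h hA⟩

/-- `X ∩ U` covers `U` modulo the kernel -/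
theorem exists_XU (h : ∀ N : Subgroup G, (∀ e ∈ E, ∀ u ∈ U, e * u * e⁻¹ ∈ N) → E ≤ N)
    {u : ↥((W ⊔ cn n W) ⊔ E)} (hu : (u : G) ∈ U) :
    ∃ x : ↥((W ⊔ cn n W) ⊔ E), (x : G) ∈ W ⊔ cn n W ∧ (x : G) ∈ U ∧ D.toSL h x = D.toSL h u := by
  obtain ⟨x, hx, hxU, hA⟩ := D.acts_um (D.rho D.XE_le u 0 1) (D.rho D.XE_le u 1 2) (D.rho D.XE_le u 0 2)
  refine ⟨⟨x, mem_sup_left hx⟩, hx, hxU, ?_⟩
  rw [D.toSL_of_acts h hA]
  apply SpecialLinearGroup.toGL_injective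
  rw [toSL_GL]
  exact (D.uniT D.XE_le hu).eq_um.symm

end In

namespace OutA

variable {v : F → F → G} {m : G → F × F} {W O Pd E U B : Subgroup G} {n t : G} (D : OutA Sg v m W O Pd E U B n t)
include D

variable [Finite G] [CharP F 2]

/-- the map to `PSL₃` -/
noncomputable def psi : ↥((W ⊔ cn n W) ⊔ E) →* ProjectiveSpecialLinearGroup (Fin 3) F :=
  (QuotientGroup.mk' (Subgroup.center (SpecialLinearGroup (Fin 3) F))).comp (D.inp.toSL D.E_gen)

theorem psi_apply (x : ↥((W ⊔ cn n W) ⊔ E)) : D.psi x = PslThree.mk (D.inp.toSL D.E_gen x) := rfl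

theorem psi_surj : Function.Surjective D.psi := by
  intro y
  obtain ⟨A, rfl⟩ := QuotientGroup.mk_surjective y
  obtain ⟨x, hx⟩ := D.inp.toSL_surj D.E_gen A
  exact ⟨x, by rw [psi_apply, hx]⟩

theorem psi_ker {x : ↥((W ⊔ cn n W) ⊔ E)} :
    D.psi x = 1 ↔ ∃ r : F, (D.inp.rho D.inp.XE_le x).1 = Matrix.scalar (Fin 3) r := by
  rw [psi_apply, QuotientGroup.eq_one_iff, Matrix.SpecialLinearGroup.mem_center_iff]
  constructor
  · rintro ⟨r, -, hr⟩
    exact ⟨r, hr.symm⟩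
  · rintro ⟨r, hr⟩
    refine ⟨r, ?_, hr.symm⟩
    have h1 := (D.inp.toSL D.E_gen x).2
    rw [D.inp.toSL_val, hr, Matrix.scalar_apply, Matrix.det_diagonal, Finset.prod_const] at h1
    simpa using h1

/-- an element of `X` in the kernel acts trivially on `Sg` -/
theorem X_psi {x : ↥((W ⊔ cn n W) ⊔ E)} (hx : (x : G) ∈ W ⊔ cn n W) (h : D.psi x = 1) :
    D.inp.rho D.inp.XE_le x = 1 := by
  obtain ⟨r, hr⟩ := D.psi_ker.1 h
  -- `x` acts trivially on `Sg / N`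
  obtain ⟨a, ha, hma⟩ := D.inp.m_surj (0, 1)
  obtain ⟨b, c, h1⟩ := D.inp.X_act hx ha
  have h2 := D.inp.rho_spec D.inp.XE_le x a ha
  have h3 : D.inp.crd ((x : G) * a * (x : G)⁻¹) (Md.conj_mem (D.inp.sup_Sg (D.inp.XE_le x.2)) ha) 2 = 1 := by
    show (m ((x : G) * a * (x : G)⁻¹)).2 = 1
    rw [h1, D.inp.m_mul _ ha _ (D.inp.v_mem b c), hma, D.inp.m_v]
    simp
  have h4 : D.inp.crd a ha 2 = 1 := by
    show (m a).2 = 1
    rw [hma]
  rw [h2, hr, Matrix.scalar_apply, mulVec_diagonal, h4, mul_one] at h3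
  apply Units.ext
  rw [hr, h3, map_one, Units.val_one]

theorem cent_of_rho {x : ↥((W ⊔ cn n W) ⊔ E)} (h : D.inp.rho D.inp.XE_le x = 1) {a : G} (ha : a ∈ Sg) :
    (x : G) * a * (x : G)⁻¹ = a := (D.inp.rho_eq_one D.inp.XE_le x).1 h a ha

/-! ### The kernel lemma -/

/-- `X` is perfect modulo the kernel -/
theorem X_perf (hF : ∃ b : F, b ≠ 0 ∧ b ^ 2 ≠ 1) :
    (W ⊔ cn n W) ≤ ⁅W ⊔ cn n W, W ⊔ cn n W⁆ ⊔ ((W ⊔ cn n W) ⊓ centralizer (Sg : Set G)) := by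
  set X := W ⊔ cn n W with hX
  have hXX : ⁅X, X⁆ ≤ X := by
    rw [commutator_le]
    intro a ha b hb
    rw [commutatorElement_def]
    exact mul_mem (mul_mem (mul_mem ha hb) (inv_mem ha)) (inv_mem hb)
  have hN : ∀ x ∈ X, ∀ y ∈ ⁅X, X⁆ ⊔ (X ⊓ centralizer (Sg : Set G)),
      x * y * x⁻¹ ∈ ⁅X, X⁆ ⊔ (X ⊓ centralizer (Sg : Set G)) := by
    intro x hx y hy
    have hyX : y ∈ X := (sup_le hXX inf_le_left) hy
    have e : x * y * x⁻¹ = ⁅x, y⁆ * y := by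
      rw [commutatorElement_def]; group
    rw [e]
    exact mul_mem (mem_sup_left (commutator_mem_commutator hx hyX)) hy
  have hW : W ≤ ⁅X, X⁆ ⊔ (X ⊓ centralizer (Sg : Set G)) := by
    intro w hw
    obtain ⟨l, k, h⟩ := D.inp.acts_W_of (D.inp.W_le hw)
    obtain ⟨y, hy, h'⟩ := D.inp.acts_comm hF l k
    have hyX : y ∈ X := hXX hy
    have hwX : w ∈ X := mem_sup_left hw
    have h1 : y⁻¹ * w ∈ X ⊓ centralizer (Sg : Set G) := by
      refine mem_inf.2 ⟨mul_mem (inv_mem hyX) hwX, ?_⟩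
      rw [mem_centralizer_iff]
      intro a ha
      have h2 := h'.cent h ha
      rw [mul_inv_eq_iff_eq_mul] at h2
      exact h2.symm
    have h2 := mul_mem (mem_sup_left hy : y ∈ ⁅X, X⁆ ⊔ (X ⊓ centralizer (Sg : Set G))) (mem_sup_right h1)
    rwa [mul_inv_cancel_left] at h2
  apply sup_le hW
  rintro _ ⟨w, hw, rfl⟩
  exact hN n D.inp.n_mem w (hW hw)

/-- the group `M = ⟨X, E⟩` -/
abbrev MM (W E : Subgroup G) (n : G) : Subgroup G := (W ⊔ cn n W) ⊔ E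

theorem scal_conj {c : ↥(MM W E n)} (hc : D.psi c = 1) {a : G} (ha : a ∈ Sg) (x : ↥(MM W E n)) :
    (⁅c, x⁆ : ↥(MM W E n)) * a * ((⁅c, x⁆ : ↥(MM W E n)) : G)⁻¹ = a := by
  refine D.cent_of_rho ?_ ha
  obtain ⟨r, hr⟩ := D.psi_ker.1 hc
  rw [commutatorElement_def, map_mul, map_mul, map_mul, map_inv, map_inv, mul_inv_eq_one, mul_inv_eq_iff_eq_mul]
  apply Units.ext
  rw [Units.val_mul, Units.val_mul, hr]
  exact (Matrix.scalar_commute r (fun r' => mul_comm r r') _).eq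

/-- an element which acts as a scalar normalises `N` -/
theorem scal_N {c : ↥(MM W E n)} (hc : D.psi c = 1) (b d : F) :
    ∃ b' d', (c : G) * v b d * (c : G)⁻¹ = v b' d' := by
  obtain ⟨r, hr⟩ := D.psi_ker.1 hc
  refine D.inp.of_row_two D.inp.XE_le ?_ ?_ b d
  · rw [hr, Matrix.scalar_apply]; simp
  · rw [hr, Matrix.scalar_apply]; simp

theorem map_U : (U.subgroupOf (MM W E n)).map D.psi = UP F := by
  apply le_antisymm
  · rintro _ ⟨u, hu, rfl⟩
    refine ⟨D.inp.toSL D.E_gen u, ?_, rfl⟩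
    show D.inp.toSL D.E_gen u ∈ US F
    rw [mem_US_iff, D.inp.toSL_GL]
    exact D.inp.uniT D.inp.XE_le (mem_subgroupOf.1 hu)
  · rintro _ ⟨_, ⟨a, b, c, rfl⟩, rfl⟩
    obtain ⟨x, hx, hxU, h⟩ := D.inp.acts_um a b c
    refine ⟨⟨x, mem_sup_left hx⟩, mem_subgroupOf.2 hxU, ?_⟩
    rw [psi_apply, D.inp.toSL_of_acts D.E_gen h]
    rfl

theorem index_sup [Finite F] : ¬ 2 ∣ ((U.subgroupOf (MM W E n)) ⊔ D.psi.ker).index := by
  rw [← index_map_eq _ D.psi_surj (show D.psi.ker ≤ (U.subgroupOf (MM W E n)) ⊔ D.psi.ker from le_sup_right),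
    Subgroup.map_sup, D.map_U, (Subgroup.map_eq_bot_iff _).2 le_rfl, sup_bot_eq]
  obtain ⟨T, hT⟩ := exists_sylow_UP (F := F)
  have : Finite (SpecialLinearGroup (Fin 3) F) := Subtype.finite
  have : Finite (ProjectiveSpecialLinearGroup (Fin 3) F) := Quotient.finite _
  have : Fact (Nat.Prime 2) := ⟨Nat.prime_two⟩
  rw [← hT]
  exact T.not_dvd_index

theorem kernel [Finite F] (hF : ∃ b : F, b ≠ 0 ∧ b ^ 2 ≠ 1) :
    (U.subgroupOf (MM W E n) ⊓ D.psi.ker).Normal ∧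
      ⁅D.psi.ker, (⊤ : Subgroup ↥(MM W E n))⁆ ≤ U.subgroupOf (MM W E n) ⊓ D.psi.ker ∧
      Odd ((U.subgroupOf (MM W E n) ⊓ D.psi.ker).relIndex D.psi.ker) := by
  set M' := MM W E n with hM'
  have hXM : W ⊔ cn n W ≤ M' := le_sup_left
  have hEM : E ≤ M' := le_sup_right
  have hUM : U ≤ M' := D.inp.U_sup
  have hnc : ∀ x : ↥M', (x : G) ∈ W ⊔ cn n W →
      x ∈ normalClosure (((W ⊔ cn n W).subgroupOf M' : Subgroup ↥M') : Set ↥M') :=
    fun x hx => subset_normalClosure (mem_subgroupOf.2 hx)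
  refine Kernel.main D.psi.ker ((W ⊔ cn n W).subgroupOf M') (E.subgroupOf M') (U.subgroupOf M')
    D.inp.isP.comap_subtype (fun x hx => mem_subgroupOf.2 (D.inp.U_E (mem_subgroupOf.1 hx))) ?_ ?_ ?_ ?_ ?_ ?_ ?_ ?_
  · rw [relIndex_subgroupOf hEM]
    intro h2
    apply D.inp.U_odd
    rw [← relIndex_mul_relIndex U E Pd D.inp.U_E D.inp.E_le]
    exact Dvd.dvd.mul_right h2 _
  · rw [← subgroupOf_sup hXM hEM, subgroupOf_self]
  · rw [commutator_le]
    intro c hc x hx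
    have hc1 : D.psi c = 1 := hc
    refine mem_subgroupOf.2 (D.X_ker _ ?_ fun a ha => D.scal_conj hc1 ha x)
    have h1 := D.X_nor c (D.inp.XE_le c.2) (D.scal_N hc1) x (mem_subgroupOf.1 hx)
    have h2 := mul_mem h1 (inv_mem (mem_subgroupOf.1 hx))
    exact h2
  · rintro x ⟨hx, hc⟩
    refine mem_subgroupOf.2 (D.X_ker _ (mem_subgroupOf.1 hx) fun a ha => ?_)
    exact D.cent_of_rho (D.X_psi (mem_subgroupOf.1 hx) hc) ha
  · intro x hx
    have h1 := D.X_perf hF (mem_subgroupOf.1 hx)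
    obtain ⟨y, hy, z, hz, hyz⟩ := exists_mul_of_norm (H := ⁅W ⊔ cn n W, W ⊔ cn n W⁆)
      (K := (W ⊔ cn n W) ⊓ centralizer (Sg : Set G)) (by
        intro k hk y hy
        have hkX : k ∈ W ⊔ cn n W := hk.1
        have h3 : ⁅W ⊔ cn n W, W ⊔ cn n W⁆ ≤ (⁅W ⊔ cn n W, W ⊔ cn n W⁆).comap (MulAut.conj k).toMonoidHom := by
          rw [commutator_le]
          intro a ha b hb
          show k * ⁅a, b⁆ * k⁻¹ ∈ ⁅W ⊔ cn n W, W ⊔ cn n W⁆
          have e : k * ⁅a, b⁆ * k⁻¹ = ⁅k * a * k⁻¹, k * b * k⁻¹⁆ := by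
            simp only [commutatorElement_def]; group
          rw [e]
          exact commutator_mem_commutator (mul_mem (mul_mem hkX ha) (inv_mem hkX))
            (mul_mem (mul_mem hkX hb) (inv_mem hkX))
        exact h3 hy) h1
    have hmap : (⁅(W ⊔ cn n W).subgroupOf M', (W ⊔ cn n W).subgroupOf M'⁆).map M'.subtype =
        ⁅W ⊔ cn n W, W ⊔ cn n W⁆ := by
      rw [map_commutator, subgroupOf_map_subtype, inf_of_le_left hXM]
    rw [← hmap] at hy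
    obtain ⟨y', hy', rfl⟩ := hy
    have hzM : z ∈ M' := hXM hz.1
    have e : x = y' * ⟨z, hzM⟩ := Subtype.ext hyz
    rw [e]
    refine mul_mem (mem_sup_left hy') (mem_sup_right (mem_inf.2 ⟨mem_subgroupOf.2 hz.1, ?_⟩))
    have h4 : D.inp.rho D.inp.XE_le ⟨z, hzM⟩ = 1 := (D.inp.rho_eq_one D.inp.XE_le _).2 fun a ha => by
      have := mem_centralizer_iff.1 hz.2 a ha
      show z * a * z⁻¹ = a
      rw [← this, mul_inv_cancel_right]
    rw [MonoidHom.mem_ker, D.psi_ker]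
    exact ⟨1, by rw [h4, map_one]; rfl⟩
  · rw [eq_top_iff]
    have h1 : M' ≤ (normalClosure (((W ⊔ cn n W).subgroupOf M' : Subgroup ↥M') : Set ↥M') ⊔
        U.subgroupOf M').map M'.subtype := by
      refine sup_le (fun x hx => ⟨⟨x, hXM hx⟩, mem_sup_left (hnc _ hx), rfl⟩) (D.E_gen _ fun e he u hu => ?_)
      obtain ⟨x, hx, hxU, hxO⟩ := D.inp.U_X u hu
      have heM := hEM he
      have hxM := hXM hx
      have hoM : x⁻¹ * u ∈ M' := mul_mem (inv_mem hxM) (hUM hu)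
      refine ⟨(⟨e, heM⟩ * ⟨x, hxM⟩ * ⟨e, heM⟩⁻¹) * (⟨e, heM⟩ * ⟨x⁻¹ * u, hoM⟩ * ⟨e, heM⟩⁻¹), mul_mem ?_ ?_, ?_⟩
      · exact mem_sup_left (normalClosure_normal.conj_mem _ (hnc ⟨x, hxM⟩ hx) _)
      · refine mem_sup_right (mem_subgroupOf.2 (D.inp.O_le ?_))
        have := D.inp.P_O e⁻¹ (inv_mem (D.inp.E_le he)) _ hxO
        rwa [inv_inv] at this
      · show (e * x * e⁻¹) * (e * (x⁻¹ * u) * e⁻¹) = e * u * e⁻¹
        group
    intro x _
    obtain ⟨y, hy, hyx⟩ := h1 x.2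
    have : y = x := Subtype.ext hyx
    rwa [← this]
  · intro s hs
    obtain ⟨x, hx, hxU, h⟩ := D.inp.exists_XU D.E_gen (mem_subgroupOf.1 hs)
    refine ⟨x, mem_subgroupOf.2 hx, mem_subgroupOf.2 hxU, ?_⟩
    rw [MonoidHom.mem_ker, map_mul, map_inv, inv_mul_eq_one, psi_apply, psi_apply, h]
  · exact D.index_sup

/-! ### The Borel subgroup -/

theorem upT_iff {x : ↥(MM W E n)} : UpT (D.inp.rho D.inp.XE_le x) ↔
    D.psi x ∈ normalizer (UP F : Set (ProjectiveSpecialLinearGroup (Fin 3) F)) := by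
  rw [psi_apply, mem_norm, D.inp.toSL_GL]

theorem dext [Finite F] (hF : ∃ b : F, b ≠ 0 ∧ b ^ 2 ≠ 1) :
    DExt D.psi (U.subgroupOf (MM W E n) ⊓ D.psi.ker) (U.subgroupOf (MM W E n))
      (((W ⊔ cn n W) ⊔ U).subgroupOf (MM W E n)) (E.subgroupOf (MM W E n)) (UP F) (As F) (At F) := by
  obtain ⟨k1, k2, k3⟩ := D.kernel hF
  set M' := MM W E n with hM'
  have hXM : W ⊔ cn n W ≤ M' := le_sup_left
  have hEM : E ≤ M' := le_sup_right
  have hUM : U ≤ M' := D.inp.U_sup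
  have hXU : (W ⊔ cn n W) ⊔ U ≤ M' := sup_le hXM hUM
  exact
    { surj := D.psi_surj
      top := by
        rw [← subgroupOf_sup hXU hEM]
        have : (W ⊔ cn n W) ⊔ U ⊔ E = M' := by
          apply le_antisymm (sup_le hXU hEM)
          exact sup_le (le_sup_left.trans le_sup_left) le_sup_right
        rw [this, subgroupOf_self]
      Us := fun x hx => mem_subgroupOf.2 (mem_sup_right (mem_subgroupOf.1 hx))
      Ut := fun x hx => mem_subgroupOf.2 (D.inp.U_E (mem_subgroupOf.1 hx))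
      isP := D.inp.isP.comap_subtype
      nD := k1
      DU := inf_le_left
      Dker := fun d hd => hd.2
      central := fun z hz x => k2 (commutator_mem_commutator (show z ∈ D.psi.ker from hz) (mem_top x))
      cop := by
        intro z hz
        refine ⟨(U.subgroupOf M' ⊓ D.psi.ker).relIndex D.psi.ker, ?_, ?_⟩
        · exact (Nat.coprime_two_left).2 k3
        · have : ((U.subgroupOf M' ⊓ D.psi.ker).subgroupOf D.psi.ker).Normal := k1.comap _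
          have h1 := ((U.subgroupOf M' ⊓ D.psi.ker).subgroupOf D.psi.ker).pow_index_mem (⟨z, hz⟩ : ↥D.psi.ker)
          exact mem_subgroupOf.1 h1
      img := by
        intro e
        rw [← D.map_U]
        rfl
      gens := by
        intro N hN
        have h1 : (W ⊔ cn n W) ⊔ U ≤ N.map M'.subtype := by
          have hu : ∀ u (hu : u ∈ U), (⟨u, hUM hu⟩ : ↥M') ∈ N := fun u hu => by
            have := hN 1 (one_mem _) ⟨u, hUM hu⟩ (mem_subgroupOf.2 hu)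
            simpa using this
          refine sup_le (sup_le ?_ ?_) ?_
          · exact fun w hw => ⟨_, hu w (D.inp.W_U hw), rfl⟩
          · rintro _ ⟨w, hw, rfl⟩
            refine ⟨⟨n, hXM D.inp.n_mem⟩ * ⟨w, hUM (D.inp.W_U hw)⟩ * ⟨n, hXM D.inp.n_mem⟩⁻¹, ?_, rfl⟩
            exact hN _ (mem_subgroupOf.2 (mem_sup_left D.inp.n_mem)) _ (mem_subgroupOf.2 (D.inp.W_U hw))
          · exact fun u hu' => ⟨_, hu u hu', rfl⟩
        intro x hx
        obtain ⟨y, hy, hyx⟩ := h1 (mem_subgroupOf.1 hx)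
        have : y = x := Subtype.ext hyx
        rwa [← this]
      gent := by
        intro N hN
        have h1 : E ≤ N.map M'.subtype := D.E_gen _ fun e he u hu =>
          ⟨⟨e, hEM he⟩ * ⟨u, hUM hu⟩ * ⟨e, hEM he⟩⁻¹,
            hN _ (mem_subgroupOf.2 he) _ (mem_subgroupOf.2 hu), rfl⟩
        intro x hx
        obtain ⟨y, hy, hyx⟩ := h1 (mem_subgroupOf.1 hx)
        have : y = x := Subtype.ext hyx
        rwa [← this]
      ims := by
        intro e he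
        rw [psi_apply, mem_As, D.inp.toSL_val]
        have hN : (W ⊔ cn n W) ⊔ U ≤ normalizer (Sg : Set G) := hXU.trans (D.inp.XE_le.trans D.inp.sup_Sg)
        let T : Subgroup G :=
          { carrier := {g | (∀ b c, ∃ b' c', g * v b c * g⁻¹ = v b' c') ∧
              (∀ b c, ∃ b' c', g⁻¹ * v b c * g⁻¹⁻¹ = v b' c')}
            one_mem' := ⟨fun b c => ⟨b, c, by group⟩, fun b c => ⟨b, c, by group⟩⟩
            mul_mem' := by
              have aux : ∀ {g h : G}, (∀ b c, ∃ b' c', g * v b c * g⁻¹ = v b' c') →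
                  (∀ b c, ∃ b' c', h * v b c * h⁻¹ = v b' c') →
                  ∀ b c, ∃ b' c', (g * h) * v b c * (g * h)⁻¹ = v b' c' := by
                intro g h hg hh b c
                obtain ⟨b', c', h1⟩ := hh b c
                obtain ⟨b'', c'', h2⟩ := hg b' c'
                refine ⟨b'', c'', ?_⟩
                have e : (g * h) * v b c * (g * h)⁻¹ = g * (h * v b c * h⁻¹) * g⁻¹ := by group
                rw [e, h1, h2]
              rintro g h ⟨hg, hg'⟩ ⟨hh, hh'⟩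
              refine ⟨aux hg hh, ?_⟩
              rw [_root_.mul_inv_rev]
              exact aux hh' hg'
            inv_mem' := by
              rintro g ⟨hg, hg'⟩
              refine ⟨hg', ?_⟩
              rw [inv_inv]
              exact hg }
        have hT : (W ⊔ cn n W) ⊔ U ≤ T := sup_le
          (fun x hx => ⟨fun b c => D.inp.X_N hx b c, fun b c => D.inp.X_N (inv_mem hx) b c⟩)
          (fun x hx => ⟨fun b c => D.inp.U_N hx b c, fun b c => D.inp.U_N (inv_mem hx) b c⟩)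
        exact D.inp.row_two D.inp.XE_le fun b c => (hT (mem_subgroupOf.1 he)).1 b c
      imt := by
        intro e he
        rw [psi_apply, mem_At, D.inp.toSL_val]
        exact D.inp.col_zero D.inp.XE_le fun b => ⟨b, D.inp.P_R _ (D.inp.E_le (mem_subgroupOf.1 he)) b⟩
      nAs := norm_le_As
      nAt := norm_le_At
      inf := inf_le_norm
      nots := by
        refine ⟨⟨n, hXM D.inp.n_mem⟩, mem_subgroupOf.2 (mem_sup_left D.inp.n_mem), ?_⟩
        intro h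
        rw [← D.upT_iff] at h
        have h1 := D.inp.of_col_zero D.inp.XE_le h.1 h.2.1 1
        have h2 : n * v 1 0 * n⁻¹ = v 0 1 := D.inp.n_v 1 0
        have h3 := h2.symm.trans h1
        have h4 := congrArg m h3
        rw [D.inp.m_v, D.inp.m_v] at h4
        exact one_ne_zero (congrArg Prod.fst h4)
      nott := by
        obtain ⟨p, hp, c, h⟩ := D.inp.E_mv
        refine ⟨⟨p, hEM hp⟩, mem_subgroupOf.2 hp, ?_⟩
        intro h1
        rw [← D.upT_iff] at h1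
        obtain ⟨b', c', h2⟩ := D.inp.of_row_two D.inp.XE_le h1.2.1 h1.2.2 0 c
        apply h
        have h3 : p * v 0 c * p⁻¹ = v b' c' := h2
        rw [h3, D.inp.m_v] }

omit D [Finite G] in
theorem exists_sq [Finite F] (hF : 4 ≤ Nat.card F) : ∃ b : F, b ≠ 0 ∧ b ^ 2 ≠ 1 := by
  have : Fintype F := Fintype.ofFinite F
  classical
  rw [Nat.card_eq_fintype_card] at hF
  by_contra hcon
  push Not at hcon
  have h1 : (Finset.univ : Finset F) ⊆ {0, 1} := by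
    intro b _
    by_cases hb : b = 0
    · simp [hb]
    · have h2 := hcon b hb
      have h3 : (b - 1) ^ 2 = 0 := by
        rw [sub_sq, h2, one_pow, mul_one, CharTwo.two_eq_zero, zero_mul, sub_zero, CharTwo.add_self_eq_zero]
      have h4 : b = 1 := sub_eq_zero.1 (pow_eq_zero_iff (two_ne_zero)|>.1 h3)
      simp [h4]
  have h2 := Finset.card_le_card h1
  have h3 : ({0, 1} : Finset F).card ≤ 2 := Finset.card_le_two
  rw [Finset.card_univ] at h2
  omega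

/-- an element of `⟨X, E⟩` which stabilises the flag lies in `B` -/
theorem mem_B [Finite F] (hF : 4 ≤ Nat.card F) {x : ↥(MM W E n)} (hx : UpT (D.inp.rho D.inp.XE_le x)) :
    (x : G) ∈ B := by
  have : Finite (SpecialLinearGroup (Fin 3) F) := Subtype.finite
  have : Finite (ProjectiveSpecialLinearGroup (Fin 3) F) := Quotient.finite _
  have : Fact (Nat.Prime 2) := ⟨Nat.prime_two⟩
  obtain ⟨Q, UE, s, t, K, -⟩ := Fam.L3.hasKPair (F := F) hF
  obtain ⟨T, hT⟩ := exists_sylow_UP (F := F)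
  have h1 := (D.dext (exists_sq hF)).gen K (by rw [← hT]; exact split_card_eq K.split T) (D.upT_iff.1 hx)
  have hn : ∀ y : ↥(MM W E n), y ∈ normalizer ((U.subgroupOf (MM W E n) : Subgroup ↥(MM W E n)) : Set ↥(MM W E n)) →
      (y : G) ∈ normalizer (U : Set G) := by
    intro y hy
    have key : ∀ z : ↥(MM W E n), z ∈ normalizer ((U.subgroupOf (MM W E n) : Subgroup ↥(MM W E n)) : Set ↥(MM W E n)) →
        ∀ u ∈ U, (z : G) * u * (z : G)⁻¹ ∈ U := by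
      intro z hz u hu
      exact mem_subgroupOf.1 ((mem_normalizer_iff.1 hz ⟨u, D.inp.U_sup hu⟩).1 (mem_subgroupOf.2 hu))
    rw [mem_normalizer_iff]
    intro u
    refine ⟨key y hy u, fun hu => ?_⟩
    have h2 := key y⁻¹ (inv_mem hy) _ hu
    have e : ((y⁻¹ : ↥(MM W E n)) : G) * ((y : G) * u * (y : G)⁻¹) * ((y⁻¹ : ↥(MM W E n)) : G)⁻¹ = u := by
      rw [coe_inv]; group
    rwa [e] at h2
  have h2 : (((W ⊔ cn n W) ⊔ U).subgroupOf (MM W E n) ⊓ normalizer ((U.subgroupOf (MM W E n) :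
      Subgroup ↥(MM W E n)) : Set ↥(MM W E n))) ⊔ (E.subgroupOf (MM W E n) ⊓ normalizer ((U.subgroupOf (MM W E n) :
      Subgroup ↥(MM W E n)) : Set ↥(MM W E n))) ≤ B.subgroupOf (MM W E n) := by
    apply sup_le
    · rintro y ⟨hy1, hy2⟩
      exact mem_subgroupOf.2 (D.bX _ (mem_subgroupOf.1 hy1) (hn y hy2))
    · rintro y ⟨hy1, hy2⟩
      exact mem_subgroupOf.2 (D.bE _ (mem_subgroupOf.1 hy1) (hn y hy2))
  exact mem_subgroupOf.1 (h2 h1)

theorem B_X {b : G} (hb : b ∈ B) {x : G} (hx : x ∈ W ⊔ cn n W) : b * x * b⁻¹ ∈ W ⊔ cn n W :=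
  D.X_nor b (D.B_le hb) (D.B_N b hb) x hx

/-- `B` normalises `⟨X, E⟩` -/
theorem B_MM {b : G} (hb : b ∈ B) {x : G} (hx : x ∈ MM W E n) : b * x * b⁻¹ ∈ MM W E n := by
  have h1 : MM W E n ≤ (MM W E n).comap (MulAut.conj b).toMonoidHom :=
    sup_le (fun x hx => mem_sup_left (D.B_X hb hx)) (fun x hx => mem_sup_right (D.B_E b hb x hx))
  exact h1 hx

theorem P_le {I : Type*} {P : I → Subgroup G} {i j : I} (hi : P i = (W ⊔ cn n W) ⊔ B) (hj : P j = E ⊔ B) :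
    P i ⊔ P j ≤ (W ⊔ cn n W) ⊔ Pd := by
  rw [hi, hj]
  exact sup_le (sup_le le_sup_left D.B_le) (sup_le (D.inp.E_le.trans le_sup_right) D.B_le)

/-- **The residue of type `(α)`.** -/
theorem resA [Finite F] (hF : 4 ≤ Nat.card F) {I : Type*} {P : I → Subgroup G} {i j : I} (hB : ∀ a, B ≤ P a)
    (hi : P i = (W ⊔ cn n W) ⊔ B) (hj : P j = E ⊔ B) :
    ResA B U P i j (D.inp.rho (D.P_le hi hj)) where
  le := hB
  U_le := D.U_B
  norm := D.B_U
  U_to u hu := D.inp.uniT _ hu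
  U_of a b c := by
    obtain ⟨x, hx, hxU, h⟩ := D.inp.acts_um a b c
    have hxP : x ∈ P i ⊔ P j := by rw [hi]; exact mem_sup_left (mem_sup_left hx)
    exact ⟨⟨x, hxP⟩, hxU, D.inp.rho_of_acts _ h⟩
  sl g := by
    obtain ⟨x, hx, h⟩ := D.inp.acts_SL g
    have h1 : (W ⊔ cn n W) ⊔ E ≤ P i ⊔ P j := by
      rw [hi, hj]
      exact sup_le (le_sup_left.trans le_sup_left) (le_sup_left.trans le_sup_right)
    exact ⟨⟨x, h1 hx⟩, D.inp.rho_of_acts _ h⟩
  bor x hx := by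
    have h1 : (x : G) ∈ MM W E n ⊔ B := by
      have h2 : P i ⊔ P j ≤ MM W E n ⊔ B := by
        rw [hi, hj]
        exact sup_le (sup_le_sup le_sup_left le_rfl) (sup_le_sup le_sup_right le_rfl)
      exact h2 x.2
    obtain ⟨y, hy, b, hb, hyb⟩ := exists_mul_of_norm (fun k hk z hz => D.B_MM hk hz) h1
    rw [hyb]
    refine mul_mem (D.mem_B hF (x := ⟨y, hy⟩) ?_) hb
    have hyx : y = x * b⁻¹ := by rw [hyb, mul_inv_cancel_right]
    have c1 := D.inp.col_zero D.inp.XE_le (x := ⟨y, hy⟩) fun c => by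
      obtain ⟨c', h3⟩ := D.B_R _ (inv_mem hb) c
      have h4 := D.inp.of_col_zero (D.P_le hi hj) hx.1 hx.2.1 c'
      refine ⟨_, Eq.trans ?_ h4⟩
      rw [← h3]
      show y * v c 0 * y⁻¹ = _
      rw [hyx]; group
    have c2 := D.inp.row_two D.inp.XE_le (x := ⟨y, hy⟩) fun c d => by
      obtain ⟨c', d', h3⟩ := D.B_N _ (inv_mem hb) c d
      obtain ⟨c'', d'', h4⟩ := D.inp.of_row_two (D.P_le hi hj) hx.2.1 hx.2.2 c' d'
      refine ⟨c'', d'', ?_⟩
      rw [← h4, ← h3]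
      show y * v c d * y⁻¹ = _
      rw [hyx]; group
    exact ⟨c1.1, c1.2, c2.2⟩
  Pi x hx := by
    have hx' : (x : G) ∈ (W ⊔ cn n W) ⊔ B := hi ▸ hx
    obtain ⟨y, hy, b, hb, hyb⟩ := exists_mul_of_norm (fun k hk z hz => D.B_X hk hz) hx'
    refine D.inp.row_two _ fun c d => ?_
    obtain ⟨c', d', h3⟩ := D.B_N _ hb c d
    obtain ⟨c'', d'', h4⟩ := D.inp.X_N hy c' d'
    refine ⟨c'', d'', ?_⟩
    rw [← h4, ← h3, hyb]; group
  Pj x hx := by
    have hx' : (x : G) ∈ E ⊔ B := hj ▸ hx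
    obtain ⟨y, hy, b, hb, hyb⟩ := exists_mul_of_norm (fun k hk z hz => D.B_E k hk z hz) hx'
    refine D.inp.col_zero _ fun c => ?_
    obtain ⟨c', h3⟩ := D.B_R _ hb c
    refine ⟨c', ?_⟩
    rw [← D.inp.P_R _ (D.inp.E_le hy) c', ← h3, hyb]; group
  lt a ha := by
    rcases ha with rfl | rfl
    · refine ⟨n, by rw [hi]; exact mem_sup_left D.inp.n_mem, fun hn => ?_⟩
      obtain ⟨c', h⟩ := D.B_R n hn 1
      rw [D.inp.n_v] at h
      have h1 := congrArg m h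
      rw [D.inp.m_v, D.inp.m_v] at h1
      exact one_ne_zero (congrArg Prod.fst h1)
    · obtain ⟨p, hp, c, h⟩ := D.inp.E_mv
      refine ⟨p, by rw [hj]; exact mem_sup_left hp, fun hpB => ?_⟩
      obtain ⟨c', d', h1⟩ := D.B_N p hpB 0 c
      apply h
      rw [h1, D.inp.m_v]

end OutA

end Cfsg.Agent.Omega.HSplit.LinA
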