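import Cfsg.Agent.Omega.HSplit.Panel
import Cfsg.Agent.Omega.HSplit.LinARes
import Cfsg.Agent.Omega.HOne.FqFacts
import Cfsg.Agent.Omega.HOne.XV
import Cfsg.Agent.Omega.Lie.End.Zero

/-!
# A moved node of type `(α)` (II.a and II.0h1): the data `OutA`

`NodA V R i j t B U Q p'` : a panel `Q / B` over `R i`, `V ^ p' ≠ V`, `V ^ p' ≤ D`, `p' ∈ Q ∩ C(R i)`.
`NodA.outA` : the data of `HSplit/LinARes.lean` on `Σ = V V ^ p'`.
-/

set_option autoImplicit false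
set_option linter.unusedSectionVars false

namespace Cfsg.Agent.Omega.HSplit.Alpha

open Subgroup Cfsg.Agent.Omega.BTwo Cfsg.Agent.ParSys Cfsg.Agent.Omega.HOneQ Cfsg.Agent.Omega.HSplit.Panel
  Cfsg.Agent.Omega.HSplit.LinA Cfsg.Agent.Omega.Lie Cfsg.Agent.Omega.Lie.Quot Cfsg.Agent.Omega.HOne.ModZ
  Cfsg.Agent.Omega.Lie.Zero

universe u v w

variable {G : Type u} [Group G] {ι : Type w} {V : Subgroup G} {R : ι → Subgroup G} {i j : ι}
  {F : Type v} [Field F] {v : F → F → G} {w1 w2 t : F → G}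

/-- the part of `Q` centralising `R i` -/
abbrev Qd (R : ι → Subgroup G) (i : ι) (Q : Subgroup G) : Subgroup G := Q ⊓ centralizer (R i : Set G)

/-- A moved node `Q` over `B`. -/
structure NodB (V : Subgroup G) (R : ι → Subgroup G) (i j : ι) {F : Type v} [Field F] (t : F → G)
    (B U Q : Subgroup G) : Prop where
  dat : Dat V R i B U
  pan : Pan B U Q
  TB : ∀ a, a ≠ 0 → t a ∈ B
  sc : ∀ x ∈ Q, ∃ a : F, a ≠ 0 ∧ t a * x ∈ centralizer (R i : Set G)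
  nd : Nd V R i j (Qd R i Q)

/-- A moved node `Q` of type `(α)`: the line `V ^ p'` is in `D`. -/
structure NodA (V : Subgroup G) (R : ι → Subgroup G) (i j : ι) {F : Type v} [Field F] (t : F → G)
    (B U Q : Subgroup G) (p' : G) : Prop extends NodB V R i j t B U Q where
  mem : p' ∈ Qd R i Q
  ne : cj p' V ≠ V
  leD : cj p' V ≤ DD V R

theorem cen_le_norm {K : Subgroup G} : centralizer (K : Set G) ≤ normalizer (K : Set G) := by
  intro g hg
  rw [mem_normalizer_iff]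
  intro x
  have key : ∀ g ∈ centralizer (K : Set G), ∀ y ∈ K, g * y * g⁻¹ ∈ K := fun g hg y hy => by
    rw [← mem_centralizer_iff.1 hg y hy, mul_inv_cancel_right]; exact hy
  refine ⟨key g hg x, fun h => ?_⟩
  have h1 := key g⁻¹ (inv_mem hg) _ h
  have e : g⁻¹ * (g * x * g⁻¹) * g⁻¹⁻¹ = x := by group
  rwa [e] at h1

namespace NodB

variable {B U Q : Subgroup G} (h : NodB V R i j t B U Q) (b : BTS V R) (c : Coord V R i j v w1 w2)
  (τ : TorD V R i j v t)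
include h

theorem U_cen (b : BT V R) : U ≤ centralizer (R i : Set G) := by
  intro u hu
  obtain ⟨w, hw, hc⟩ := h.dat.UC u hu
  rw [mem_centralizer_iff]
  intro a ha
  have h1 := b.QR i w (b.W_le_Q i hw) a ha
  have h2 := mem_centralizer_iff.1 hc a (b.R_le i ha)
  have e : u = w * (w⁻¹ * u) := by group
  rw [e]
  calc a * (w * (w⁻¹ * u)) = (a * w) * (w⁻¹ * u) := by group
    _ = w * (a * (w⁻¹ * u)) := by rw [← h1]; group
    _ = w * (w⁻¹ * u) * a := by rw [h2]; group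

include τ in
theorem Q_norm : Q ≤ normalizer (R i : Set G) := by
  intro x hx
  obtain ⟨a, ha, h1⟩ := h.sc x hx
  have h2 := mul_mem (inv_mem (τ.normR ha)) (cen_le_norm h1)
  rwa [inv_mul_cancel_left] at h2

include τ in
theorem Qd_norm : Q ≤ normalizer (Qd R i Q : Set G) := by
  refine le_normalizer_of fun g hg x hx => mem_inf.2 ⟨mul_mem (mul_mem hg hx.1) (inv_mem hg), ?_⟩
  exact BTwo.conj_mem_of_normalizer (normalizer_le_normalizer_centralizer _ (h.Q_norm τ hg)) hx.2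

theorem U_le_Qd (b : BT V R) : U ≤ Qd R i Q := le_inf h.pan.U_le_Q (h.U_cen b)

include τ in
theorem E_le (b : BT V R) : WN U Q ≤ Qd R i Q := WN_le fun g hg => by
  rw [cj_le_iff]
  intro u hu
  exact BTwo.conj_mem_of_normalizer (h.Qd_norm τ hg) (h.U_le_Qd b hu)

/-- `2`-subgroups of `X ∩ N(R i)` are in `U` -/
theorem le_U {K : Subgroup G} (hK : IsPGroup 2 K) (hX : K ≤ XX V R) (hN : K ≤ normalizer (R i : Set G)) : K ≤ U :=
  h.pan.le_U hK fun _ hx => h.dat.XB (mem_inf.2 ⟨hX hx, hN hx⟩)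

theorem Uj_le (b : BT V R) : UU V R j ≤ U :=
  h.le_U (b.U_isPGroup j) ((UU_le_YY j).trans YY_le_XX) ((UU_le_cen j).trans (b.cen_le_N i))

/-- `W i` acts trivially on the panel -/
theorem W_le_Qk (τ : TorD V R i j v t) : WW V (R i) ≤ Qk B Q := fun _ hx _ hg =>
  h.pan.UB (h.dat.WU (conj_inv_mem_of_normalizer (normalizer_le_WW V (R i) (h.Q_norm τ hg)) hx))

/-- `Q ∩ N(V) = B` -/
theorem mem_B {p' : G} (hp' : p' ∈ Q) (hne : cj p' V ≠ V) {x : G} (hx : x ∈ Q) (hV : x ∈ normalizer (V : Set G)) :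
    x ∈ B := by
  refine h.pan.mem_B_of_stab (S := normalizer (V : Set G)) h.dat.BV (fun hc => hne ?_) hx hV
  exact cj_eq_self_iff.2 (hc hp')

/-- the elements of `U` are in `U_j (U ∩ Q_k)` -/
theorem exists_Uj (b : BT V R) {p' : G} (hp' : p' ∈ Qd R i Q) (hne : cj p' V ≠ V) {u : G} (hu : u ∈ U) :
    ∃ y ∈ UU V R j, y⁻¹ * u ∈ Qk B Q := by
  have huV := h.dat.BV (h.pan.UB hu)
  have hup : u * p' ∈ Qd R i Q := mul_mem (h.U_le_Qd b hu) hp'
  have hne' : cj (u * p') V ≠ V := by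
    intro h1
    apply hne
    rw [cj_mul] at h1
    have h2 : cj u V = V := cj_eq_self_iff.2 huV
    exact cj_injective (h1.trans h2.symm)
  obtain ⟨y, hy, e⟩ := h.nd.trans p' hp' hne _ hup hne'
  refine ⟨y, hy, ?_⟩
  have hyU := h.Uj_le b hy
  have hp'B : p' ∉ B := fun hc => hne (cj_eq_self_iff.2 (h.dat.BV hc))
  refine h.pan.reg _ (mul_mem (inv_mem hyU) hu) p' hp'.1 hp'B ?_
  refine h.mem_B hp'.1 hne (mul_mem (mul_mem (inv_mem hp'.1) (h.pan.U_le_Q (mul_mem (inv_mem hyU) hu))) hp'.1) ?_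
  rw [← cj_eq_self_iff]
  have e1 : cj (p'⁻¹ * (y⁻¹ * u) * p') V = cj p'⁻¹ (cj y⁻¹ (cj (u * p') V)) := by
    rw [← cj_mul, ← cj_mul]
    congr 1
    group
  rw [e1, ← e, cj_inv_cj, cj_inv_cj]

end NodB

/-- `O = U ∩ Q_k` -/
abbrev OO (B U Q : Subgroup G) : Subgroup G := U ⊓ Qk B Q

section coo

variable {M : Type u} [AddCommGroup M] [Module F M]

open Classical in
/-- coordinates with respect to `e`, `x0` -/
noncomputable def coo (F : Type v) [Field F] {M : Type u} [AddCommGroup M] [Module F M] (p : G → M) (e x0 : M)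
    (g : G) : F × F :=
  if H : ∃ y : F × F, p g = y.1 • e + y.2 • x0 then H.choose else 0

/-- `e`, `x0` are linearly independent -/
def Ind (F : Type v) [Field F] {M : Type u} [AddCommGroup M] [Module F M] (e x0 : M) : Prop :=
  ∀ α β : F, α • e + β • x0 = 0 → α = 0 ∧ β = 0

theorem Ind.eq {e x0 : M} (hi : Ind F e x0) {y z : F × F} (h : y.1 • e + y.2 • x0 = z.1 • e + z.2 • x0) : y = z := by
  have h1 : (y.1 - z.1) • e + (y.2 - z.2) • x0 = 0 := by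
    rw [sub_smul, sub_smul]
    have e1 : y.1 • e - z.1 • e + (y.2 • x0 - z.2 • x0) = (y.1 • e + y.2 • x0) - (z.1 • e + z.2 • x0) := by abel
    rw [e1, h, sub_self]
  obtain ⟨h2, h3⟩ := hi _ _ h1
  exact Prod.ext (sub_eq_zero.1 h2) (sub_eq_zero.1 h3)

theorem coo_eq {p : G → M} {e x0 : M} (hi : Ind F e x0) {g : G} {y : F × F} (h : p g = y.1 • e + y.2 • x0) :
    coo F p e x0 g = y := by
  have H : ∃ y : F × F, p g = y.1 • e + y.2 • x0 := ⟨y, h⟩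
  unfold coo
  rw [dif_pos H]
  exact hi.eq (H.choose_spec.symm.trans h)

theorem coo_spec {p : G → M} {e x0 : M} (hi : Ind F e x0) {g : G} (h : ∃ y : F × F, p g = y.1 • e + y.2 • x0) :
    p g = (coo F p e x0 g).1 • e + (coo F p e x0 g).2 • x0 := by
  obtain ⟨y, hy⟩ := h
  rw [coo_eq hi hy]
  exact hy

end coo

namespace NodA

variable {B U Q : Subgroup G} {p' : G} (h : NodA V R i j t B U Q p') (b : BTS V R) (c : Coord V R i j v w1 w2)
  (τ : TorD V R i j v t) {M : Type u} [AddCommGroup M] [Module F M] [DistribMulAction (HQ (R i)) M] {p : G → M}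
  {f : M →ₗ[F] M →ₗ[F] F} {e : F →ₗ[F] M} {ω : M →ₗ[F] F} {σ : HQ (R i) →* RingAut F} {κ : HQ (R i) → F}
  (q : Fq V R i v M p f e ω σ κ)
include h

/-- the group `Σ` -/
theorem mem_N {x : G} (hx : x ∈ Qd R i Q) : x ∈ normalizer (R i : Set G) := cen_le_norm hx.2

include b in
theorem Sg_D {a : G} (ha : a ∈ WN V (Qd R i Q)) : a ∈ DD V R := h.nd.alpha_le b h.mem h.ne h.leD ha

include b in
theorem Sg_W {a : G} (ha : a ∈ WN V (Qd R i Q)) : a ∈ WW V (R i) := D_le_W V R i (h.Sg_D b ha)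

include b in
theorem Sg_comm {a a' : G} (ha : a ∈ WN V (Qd R i Q)) (ha' : a' ∈ WN V (Qd R i Q)) : a * a' = a' * a :=
  h.nd.alpha_comm b h.mem h.ne h.leD ha ha'

theorem line_mem (z : G) (hz : z ∈ V) : p' * z * p'⁻¹ ∈ WN V (Qd R i Q) := line_le_WN h.mem (conj_mem_cj hz)

include c q in
/-- the action of `C(R i)` on `M` is `F`-linear -/
theorem smul_lin {g : G} (hg : g ∈ Qd R i Q) (a : F) (x : M) :
    pr (R i) ⟨g, h.mem_N hg⟩ • (a • x) = a • (pr (R i) ⟨g, h.mem_N hg⟩ • x) :=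
  q.H0_smul c (mem_im.2 ⟨g, h.mem_N hg, hg.2, rfl⟩) a x

include c q in
theorem p_v (b' c' : F) : p (v b' c') = c' • e 1 := by
  have _ := h
  rw [q.e_eq, ← LinearMap.map_smul, smul_eq_mul, mul_one]

include c q in
theorem p_line (a d : F) : p (p' * v a d * p'⁻¹) = d • p (p' * v 0 1 * p'⁻¹) := by
  rw [← q.p_act p' (h.mem_N h.mem) _ (q.hvW c a d), ← q.p_act p' (h.mem_N h.mem) _ (q.hvW c 0 1),
    h.p_v c q, h.p_v c q, one_smul, h.smul_lin c q h.mem]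

include b c q in
theorem ind : Ind F (e 1) (p (p' * v 0 1 * p'⁻¹)) := by
  intro α β h1
  have hl : p' * v 0 β * p'⁻¹ ∈ WN V (Qd R i Q) := h.line_mem _ (c.v_mem 0 β)
  have hv : v 0 α ∈ WN V (Qd R i Q) := V_le_WN _ _ (c.v_mem 0 α)
  have h2 : p (v 0 α * (p' * v 0 β * p'⁻¹)) = 0 := by
    rw [q.p_mul _ (h.Sg_W b hv) _ (h.Sg_W b hl), h.p_v c q, h.p_line c q, h1]
  rw [q.p_ker _ (mul_mem (h.Sg_W b hv) (h.Sg_W b hl))] at h2
  have h3 : p' * v 0 β * p'⁻¹ ∈ R i := by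
    refine h.nd.inf_eq b h.mem (one_mem _) (by rw [cj_one]; exact h.ne) (conj_mem_cj (c.v_mem 0 β)) ?_
    rw [cj_one]
    have e1 : p' * v 0 β * p'⁻¹ = (v 0 α)⁻¹ * (v 0 α * (p' * v 0 β * p'⁻¹)) := by group
    rw [e1]
    exact mul_mem (mem_sup_left (inv_mem (c.v_mem 0 α))) (mem_sup_right h2)
  have h4 : v 0 β ∈ R i := by
    have h5 := BTwo.conj_inv_mem_of_normalizer (h.mem_N h.mem) h3
    have e1 : p'⁻¹ * (p' * v 0 β * p'⁻¹) * p' = v 0 β := by group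
    rwa [e1] at h5
  obtain ⟨r, hr⟩ := (c.mem_R1 _).1 h4
  have hβ : β = 0 := (c.v_inj hr).2.symm
  subst hβ
  rw [zero_smul, add_zero, ← h.p_v c q 0 α, q.p_ker _ (h.Sg_W b hv)] at h1
  obtain ⟨r, hr⟩ := (c.mem_R1 _).1 (b.cen_VW (c.v_mem 0 α) h1.2)
  exact ⟨(c.v_inj hr).2.symm, rfl⟩

include b c in
/-- the elements of `Σ` -/
theorem exists_Sg {a : G} (ha : a ∈ WN V (Qd R i Q)) : ∃ r s d, a = v r s * (p' * v 0 d * p'⁻¹) := by
  rw [h.nd.alpha_eq b h.mem h.ne h.leD] at ha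
  obtain ⟨x, hx, y, hy, rfl⟩ := exists_mul_of_norm (H := V) (K := cj p' V) (fun k hk x hx => by
    have h1 := b.D_comm (h.leD hk) (V_le_D V R hx)
    rw [h1, mul_inv_cancel_right]
    exact hx) ha
  obtain ⟨r, s, rfl⟩ := (c.mem_V x).1 hx
  obtain ⟨r', d, h1⟩ := (c.mem_V _).1 (mem_cj.1 hy)
  have h2 : y = p' * v r' d * p'⁻¹ := by rw [h1]; group
  have h3 : p' * v r' d * p'⁻¹ = v r' 0 * (p' * v 0 d * p'⁻¹) := by
    have h4 := c.v_add r' 0 0 d
    rw [add_zero, zero_add] at h4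
    have h5 := h.nd.conj_R h.mem ((c.mem_R1 _).2 ⟨r', rfl⟩)
    calc p' * v r' d * p'⁻¹ = (p' * v r' 0 * p'⁻¹) * (p' * v 0 d * p'⁻¹) := by rw [h4]; group
      _ = _ := by rw [h5]
  refine ⟨r + r', s, d, ?_⟩
  have h6 := c.v_add r s r' 0
  rw [add_zero] at h6
  rw [h2, h3, h6]
  group

include b c q in
theorem coo_ex {a : G} (ha : a ∈ WN V (Qd R i Q)) :
    ∃ y : F × F, p a = y.1 • e 1 + y.2 • p (p' * v 0 1 * p'⁻¹) := by
  obtain ⟨r, s, d, rfl⟩ := h.exists_Sg b c ha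
  have hv : v r s ∈ WN V (Qd R i Q) := V_le_WN _ _ (c.v_mem r s)
  have hl : p' * v 0 d * p'⁻¹ ∈ WN V (Qd R i Q) := h.line_mem _ (c.v_mem 0 d)
  refine ⟨(s, d), ?_⟩
  rw [q.p_mul _ (h.Sg_W b hv) _ (h.Sg_W b hl), h.p_v c q, h.p_line c q]

/-- coordinates on `Σ` -/
noncomputable abbrev cc (F : Type v) [Field F] {M : Type u} [AddCommGroup M] [Module F M] (v : F → F → G) (p : G → M)
    (e : F →ₗ[F] M) (p' : G) (g : G) : F × F := coo F p (e 1) (p (p' * v 0 1 * p'⁻¹)) g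

include b c q in
theorem cc_spec {a : G} (ha : a ∈ WN V (Qd R i Q)) :
    p a = (cc F v p e p' a).1 • e 1 + (cc F v p e p' a).2 • p (p' * v 0 1 * p'⁻¹) :=
  coo_spec (h.ind b c q) (h.coo_ex b c q ha)

include b c q in
theorem cc_eq {a : G} {y : F × F} (hy : p a = y.1 • e 1 + y.2 • p (p' * v 0 1 * p'⁻¹)) : cc F v p e p' a = y :=
  coo_eq (h.ind b c q) hy

include b c q in
theorem cc_mul {a a' : G} (ha : a ∈ WN V (Qd R i Q)) (ha' : a' ∈ WN V (Qd R i Q)) :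
    cc F v p e p' (a * a') = cc F v p e p' a + cc F v p e p' a' := by
  apply h.cc_eq b c q
  rw [q.p_mul _ (h.Sg_W b ha) _ (h.Sg_W b ha')]
  nth_rewrite 1 [h.cc_spec b c q ha]
  nth_rewrite 1 [h.cc_spec b c q ha']
  rw [Prod.fst_add, Prod.snd_add, add_smul, add_smul]
  abel

include b c q in
theorem cc_surj (x : F × F) : ∃ a ∈ WN V (Qd R i Q), cc F v p e p' a = x := by
  have hv : v 0 x.1 ∈ WN V (Qd R i Q) := V_le_WN _ _ (c.v_mem 0 x.1)
  have hl : p' * v 0 x.2 * p'⁻¹ ∈ WN V (Qd R i Q) := h.line_mem _ (c.v_mem 0 x.2)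
  refine ⟨v 0 x.1 * (p' * v 0 x.2 * p'⁻¹), mul_mem hv hl, h.cc_eq b c q ?_⟩
  rw [q.p_mul _ (h.Sg_W b hv) _ (h.Sg_W b hl), h.p_v c q, h.p_line c q]

include b c q in
theorem cc_ker {a : G} (ha : a ∈ WN V (Qd R i Q)) (h0 : cc F v p e p' a = 0) : ∃ r, a = v r 0 := by
  have h1 := h.cc_spec b c q ha
  rw [h0, Prod.fst_zero, Prod.snd_zero, zero_smul, zero_smul, add_zero, q.p_ker _ (h.Sg_W b ha)] at h1
  have h2 : a ∈ R i := by
    rw [← h.nd.alpha_Z b h.mem h.ne h.leD]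
    exact mem_inf.2 ⟨ha, h1⟩
  obtain ⟨r, hr⟩ := (c.mem_R1 _).1 h2
  exact ⟨r, hr.symm⟩

include b c q in
theorem cc_v (r s : F) : cc F v p e p' (v r s) = (s, 0) := by
  apply h.cc_eq b c q
  rw [h.p_v c q, zero_smul, add_zero]

include b c q in
theorem cc_line (r d : F) : cc F v p e p' (p' * v r d * p'⁻¹) = (0, d) := by
  apply h.cc_eq b c q
  rw [h.p_line c q, zero_smul, zero_add]

include b c q in
/-- `C(R i)` acts linearly -/
theorem cc_act {g : G} (hg : g ∈ Qd R i Q) {a : G} (ha : a ∈ WN V (Qd R i Q)) :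
    cc F v p e p' (g * a * g⁻¹) = (cc F v p e p' a).1 • cc F v p e p' (g * v 0 1 * g⁻¹) +
      (cc F v p e p' a).2 • cc F v p e p' (g * (p' * v 0 1 * p'⁻¹) * g⁻¹) := by
  have hv : v 0 1 ∈ WN V (Qd R i Q) := V_le_WN _ _ (c.v_mem 0 1)
  have hl : p' * v 0 1 * p'⁻¹ ∈ WN V (Qd R i Q) := h.line_mem _ (c.v_mem 0 1)
  have hn := P_norm_WN (V := V) hg
  have hgv := BTwo.conj_mem_of_normalizer hn hv
  have hgl := BTwo.conj_mem_of_normalizer hn hl
  apply h.cc_eq b c q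
  have h1 := h.cc_spec b c q ha
  have h2 := h.cc_spec b c q hgv
  have h3 := h.cc_spec b c q hgl
  rw [← q.p_act g (h.mem_N hg) _ (h.Sg_W b ha), h1, smul_add, h.smul_lin c q hg, h.smul_lin c q hg]
  have h4 : pr (R i) ⟨g, h.mem_N hg⟩ • e 1 = p (g * v 0 1 * g⁻¹) := by
    rw [← q.p_act g (h.mem_N hg) _ (h.Sg_W b hv), h.p_v c q, one_smul]
  have h5 : pr (R i) ⟨g, h.mem_N hg⟩ • p (p' * v 0 1 * p'⁻¹) = p (g * (p' * v 0 1 * p'⁻¹) * g⁻¹) :=
    q.p_act g (h.mem_N hg) _ (h.Sg_W b hl)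
  rw [h4, h5, h2, h3]
  simp only [Prod.fst_add, Prod.snd_add, Prod.smul_fst, Prod.smul_snd, smul_eq_mul, smul_add, add_smul, mul_smul]
  abel

include b c q in
theorem cc_lin {g : G} (hg : g ∈ Qd R i Q) : ∃ A : (F × F) →ₗ[F] (F × F), ∀ a ∈ WN V (Qd R i Q),
    cc F v p e p' (g * a * g⁻¹) = A (cc F v p e p' a) := by
  refine ⟨LinearMap.coprod (LinearMap.toSpanSingleton F _ (cc F v p e p' (g * v 0 1 * g⁻¹)))
    (LinearMap.toSpanSingleton F _ (cc F v p e p' (g * (p' * v 0 1 * p'⁻¹) * g⁻¹))), fun a ha => ?_⟩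
  rw [h.cc_act b c q hg ha, LinearMap.coprod_apply, LinearMap.toSpanSingleton_apply, LinearMap.toSpanSingleton_apply]

include b c q in
/-- the elements of `U` fix `V / R i` -/
theorem cc_U {u : G} (hu : u ∈ U) : cc F v p e p' (u * v 0 1 * u⁻¹) = (1, 0) := by
  obtain ⟨w, hw, hc⟩ := h.dat.UC u hu
  obtain ⟨s, hs⟩ := c.W1_act w hw
  have h1 : u * v 0 1 * u⁻¹ = v (s * 1) 1 := by
    have h2 := mem_centralizer_iff.1 hc _ (c.v_mem 0 1)
    have h3 : (w⁻¹ * u) * v 0 1 * (w⁻¹ * u)⁻¹ = v 0 1 := by rw [← h2, mul_inv_cancel_right]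
    have e1 : u * v 0 1 * u⁻¹ = w * ((w⁻¹ * u) * v 0 1 * (w⁻¹ * u)⁻¹) * w⁻¹ := by group
    rw [e1, h3, hs, zero_add]
  rw [h1, h.cc_v b c q]

include b c q in
/-- an element which fixes the line `V ^ g` -/
theorem cc_fix {g x : G} (hg : g ∈ Qd R i Q) (hx : x ∈ Qd R i Q) (hxg : g⁻¹ * x * g ∈ normalizer (V : Set G)) :
    ∃ d : F, cc F v p e p' (x * (g * v 0 1 * g⁻¹) * x⁻¹) = d • cc F v p e p' (g * v 0 1 * g⁻¹) := by
  have h1 := BTwo.conj_mem_of_normalizer hxg (c.v_mem 0 1)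
  obtain ⟨r, s, h2⟩ := (c.mem_V _).1 h1
  refine ⟨s, ?_⟩
  have e1 : x * (g * v 0 1 * g⁻¹) * x⁻¹ = g * v r s * g⁻¹ := by rw [h2]; group
  have hv : v r s ∈ WN V (Qd R i Q) := V_le_WN _ _ (c.v_mem r s)
  have hv1 : v 0 1 ∈ WN V (Qd R i Q) := V_le_WN _ _ (c.v_mem 0 1)
  rw [e1, h.cc_act b c q hg hv, h.cc_act b c q hg hv1, h.cc_v b c q, h.cc_v b c q]
  simp

include b c q τ in
/-- **`O` acts trivially on `Σ / R i`** -/
theorem cc_O {x : G} (hx : x ∈ OO B U Q) {a : G} (ha : a ∈ WN V (Qd R i Q)) :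
    cc F v p e p' (x * a * x⁻¹) = cc F v p e p' a := by
  have hxd : x ∈ Qd R i Q := h.U_le_Qd b.toBT hx.1
  have hl : p' * v 0 1 * p'⁻¹ ∈ WN V (Qd R i Q) := h.line_mem _ (c.v_mem 0 1)
  have hv1 : v 0 1 ∈ WN V (Qd R i Q) := V_le_WN _ _ (c.v_mem 0 1)
  have hfix : ∀ g ∈ Qd R i Q, ∃ d : F, cc F v p e p' (x * (g * v 0 1 * g⁻¹) * x⁻¹) =
      d • cc F v p e p' (g * v 0 1 * g⁻¹) := fun g hg => h.cc_fix b c q hg hxd (h.dat.BV (hx.2 g hg.1))
  have hU := h.cc_U b c q hx.1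
  obtain ⟨d, hd⟩ := hfix p' h.mem
  rw [h.cc_line b c q] at hd
  have key : ∀ g ∈ Qd R i Q, cc F v p e p' (x * (g * v 0 1 * g⁻¹) * x⁻¹) =
      ((cc F v p e p' (g * v 0 1 * g⁻¹)).1, d * (cc F v p e p' (g * v 0 1 * g⁻¹)).2) := by
    intro g hg
    rw [h.cc_act b c q hxd (BTwo.conj_mem_of_normalizer (P_norm_WN hg) hv1), hU, hd]
    ext
    · simp
    · simp [mul_comm]
  -- a third line
  have hline : ∀ g ∈ Qd R i Q, (cc F v p e p' (g * v 0 1 * g⁻¹)).2 = 0 → cj g V = V := by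
    intro g hg h0
    have hgv := BTwo.conj_mem_of_normalizer (P_norm_WN (V := V) hg) hv1
    have h1 := h.cc_spec b c q hgv
    rw [h0, zero_smul, add_zero, ← h.p_v c q 0] at h1
    by_contra hne
    have h2 : g * v 0 1 * g⁻¹ ∈ R i := by
      refine h.nd.inf_eq b hg (one_mem _) (by rwa [cj_one]) (conj_mem_cj (c.v_mem 0 1)) ?_
      rw [cj_one]
      have h3 := (q.toMZ.p_eq_iff (h.Sg_W b hgv) (V_le_WW V (R i) (c.v_mem 0 _))).1 h1
      have h4 := mul_mem (mem_sup_right h3 : _ ∈ V ⊔ ZZ V R i) (mem_sup_left (c.v_mem 0 (cc F v p e p' (g * v 0 1 * g⁻¹)).1))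
      rwa [inv_mul_cancel_right] at h4
    have h3 := BTwo.conj_inv_mem_of_normalizer (h.mem_N hg) h2
    have e1 : g⁻¹ * (g * v 0 1 * g⁻¹) * g = v 0 1 := by group
    rw [e1] at h3
    obtain ⟨r, hr⟩ := (c.mem_R1 _).1 h3
    exact zero_ne_one (c.v_inj hr).2
  have hline' : ∀ g ∈ Qd R i Q, (cc F v p e p' (g * v 0 1 * g⁻¹)).1 = 0 → cj g V = cj p' V := by
    intro g hg h0
    have hgv := BTwo.conj_mem_of_normalizer (P_norm_WN (V := V) hg) hv1
    have h1 := h.cc_spec b c q hgv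
    set β := (cc F v p e p' (g * v 0 1 * g⁻¹)).2
    rw [h0, zero_smul, zero_add, ← h.p_line c q 0] at h1
    have hl' : p' * v 0 β * p'⁻¹ ∈ WN V (Qd R i Q) := h.line_mem _ (c.v_mem 0 _)
    by_contra hne
    have h2 : g * v 0 1 * g⁻¹ ∈ R i := by
      refine h.nd.inf_eq b hg h.mem hne (conj_mem_cj (c.v_mem 0 1)) ?_
      have h3 := (q.toMZ.p_eq_iff (h.Sg_W b hgv) (h.Sg_W b hl')).1 h1
      have h4 := mul_mem (mem_sup_right h3 : _ ∈ cj p' V ⊔ ZZ V R i) (mem_sup_left (conj_mem_cj (c.v_mem 0 β)))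
      rwa [inv_mul_cancel_right] at h4
    have h3 := BTwo.conj_inv_mem_of_normalizer (h.mem_N hg) h2
    have e1 : g⁻¹ * (g * v 0 1 * g⁻¹) * g = v 0 1 := by group
    rw [e1] at h3
    obtain ⟨r, hr⟩ := (c.mem_R1 _).1 h3
    exact zero_ne_one (c.v_inj hr).2
  have hd1 : d = 1 := by
    obtain ⟨g1, hg1, g2, hg2, g3, hg3, n1, n2, n3, n12, -, -⟩ := h.nd.four
    have h3 : ∃ g ∈ Qd R i Q, cj g V ≠ V ∧ cj g V ≠ cj p' V := by
      by_cases h4 : cj g1 V = cj p' V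
      · exact ⟨g2, hg2, n2, fun h5 => n12 (h4.trans h5.symm)⟩
      · exact ⟨g1, hg1, n1, h4⟩
    obtain ⟨g, hg, k1, k2⟩ := h3
    obtain ⟨d', hd'⟩ := hfix g hg
    rw [key g hg] at hd'
    have e1 := congrArg Prod.fst hd'
    have e2 := congrArg Prod.snd hd'
    rw [Prod.smul_fst, smul_eq_mul] at e1
    rw [Prod.smul_snd, smul_eq_mul] at e2
    have m1 : (cc F v p e p' (g * v 0 1 * g⁻¹)).1 ≠ 0 := fun h0 => k2 (hline' g hg h0)
    have m2 : (cc F v p e p' (g * v 0 1 * g⁻¹)).2 ≠ 0 := fun h0 => k1 (hline g hg h0)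
    have e3 : d' = 1 := mul_right_cancel₀ m1 (by rw [one_mul]; exact e1.symm)
    rw [e3] at e2
    exact mul_right_cancel₀ m2 e2
  have h1 := h.cc_act b c q hxd ha
  rw [hU, hd, hd1] at h1
  have _ := τ
  rw [h1]
  ext
  · simp
  · simp

end NodA

end Cfsg.Agent.Omega.HSplit.Alpha
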