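import Cfsg.Agent.Omega.HSplit.AlphaNod
import Cfsg.Agent.Omega.Lie.End.Top

/-!
# A moved node of type `(α)` (II.a and II.0h1): `ResA`, `Res0`

`NodA.outA`, `NodA.exists_resA` : the residue of `P₀ = X B` and `Q` is `ResA` (`q ≥ 4`);
`NodA.exists_res0` : `Res0` of `Lie/End/Top.lean` from `SepG`.
-/

set_option autoImplicit false
set_option linter.unusedSectionVars false

namespace Cfsg.Agent.Omega.HSplit.Alpha

open Subgroup Cfsg.Agent.Omega.BTwo Cfsg.Agent.ParSys Cfsg.Agent.Omega.HOneQ Cfsg.Agent.Omega.HSplit.Panel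
  Cfsg.Agent.Omega.HSplit.LinA Cfsg.Agent.Omega.Lie Cfsg.Agent.Omega.Lie.Quot Cfsg.Agent.Omega.HOne.ModZ
  Cfsg.Agent.Omega.Lie.Zero Matrix

universe u v w

variable {G : Type u} [Group G] {ι : Type w} {V : Subgroup G} {R : ι → Subgroup G} {i j : ι}
  {F : Type v} [Field F] {v : F → F → G} {w1 w2 t : F → G}

theorem exists_ne_of_card [Finite F] (hF : 4 ≤ Nat.card F) : ∃ a : F, a ≠ 0 ∧ a ≠ 1 := by
  classical
  by_contra hc
  push Not at hc
  have h1 : Nat.card F ≤ 2 := by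
    have h2 : (Set.univ : Set F) ⊆ {0, 1} := by
      intro a _
      by_cases ha : a = 0
      · exact Or.inl ha
      · exact Or.inr (hc a ha)
    rw [← Set.ncard_univ]
    refine (Set.ncard_le_ncard h2 (Set.toFinite _)).trans ((Set.ncard_insert_le _ _).trans ?_)
    rw [Set.ncard_singleton]
  omega

theorem cn_W [CharP F 2] (c : Coord V R i j v w1 w2) (b : BT V R) :
    WW V (R i) ⊔ cn (nn w1 w2 1) (WW V (R i)) = XX V R := by
  have h1 : cn (nn w1 w2 1) (WW V (R i)) = WW V (R j) := b.cj_WW (c.nn_R1 b one_ne_zero)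
  rw [h1, b.X_eq c.ne]

namespace NodA

variable {B U Q : Subgroup G} {p' : G} (h : NodA V R i j t B U Q p') (b : BTS V R) (c : Coord V R i j v w1 w2)
  (τ : TorD V R i j v t) {M : Type u} [AddCommGroup M] [Module F M] [DistribMulAction (HQ (R i)) M] {p : G → M}
  {f : M →ₗ[F] M →ₗ[F] F} {e : F →ₗ[F] M} {ω : M →ₗ[F] F} {σ : HQ (R i) →* RingAut F} {κ : HQ (R i) → F}
  (q : Fq V R i v M p f e ω σ κ)
include h

include b c q in
/-- `U_j` induces the full root group on `Σ / R i` -/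
theorem U_full [Finite F] [CharP F 2] (hF : ∃ a : F, a ≠ 0 ∧ a ≠ 1) (τ : TorD V R i j v t) (d : F) :
    ∃ s ∈ U, ∀ a ∈ WN V (Qd R i Q),
      cc F v p e p' (s * a * s⁻¹) = cc F v p e p' a + (d * (cc F v p e p' a).2, 0) := by
  obtain ⟨N, _, _, P1, P2, y⟩ := c.exists_yPair b.toBT
  obtain ⟨Λ, -, -, h0, hA, -⟩ := q.exists_lam b c τ y hF
  have hl : p' * v 0 1 * p'⁻¹ ∈ WN V (Qd R i Q) := h.line_mem _ (c.v_mem 0 1)
  have hx0 : p (p' * v 0 1 * p'⁻¹) ∈ q.DS b.toBT c τ y hF := q.toMZ.p_mem (h.Sg_W b hl) (h.Sg_D b hl)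
  have hne : Λ ⟨_, hx0⟩ ≠ 0 := by
    intro hc
    obtain ⟨γ, hγ⟩ := (h0 _).1 hc
    have h1 := h.ind b c q (-γ) 1 (by
      rw [one_smul]
      have h2 : e γ = γ • e 1 := by rw [← LinearMap.map_smul, smul_eq_mul, mul_one]
      have h3 : p (p' * v 0 1 * p'⁻¹) = γ • e 1 := by rw [← h2]; exact hγ.symm
      rw [h3, neg_smul, neg_add_cancel])
    exact one_ne_zero h1.2
  obtain ⟨n, hn⟩ : ∃ n, Λ ⟨_, hx0⟩ n ≠ 0 := by
    by_contra hc
    push Not at hc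
    exact hne (LinearMap.ext hc)
  obtain ⟨s, hsY, hs1, hs2⟩ := y.surj 0 ((d * (Λ ⟨_, hx0⟩ n)⁻¹) • n)
  have hsU : s ∈ UU V R j := (y.mem_U2 s hsY).2 hs1
  have hs := h.Uj_le b.toBT hsU
  have hsd := h.U_le_Qd b.toBT hs
  have hv1 : v 0 1 ∈ WN V (Qd R i Q) := V_le_WN _ _ (c.v_mem 0 1)
  refine ⟨s, hs, fun a ha => ?_⟩
  have h1 := hA s hsU ⟨_, hx0⟩
  rw [hs2, map_smul, smul_eq_mul, inv_mul_cancel_right₀ hn] at h1
  have h2 : cc F v p e p' (s * v 0 1 * s⁻¹) = (1, 0) := by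
    have h3 := mem_centralizer_iff.1 (UU_le_cen j hsU) _ (c.v_mem 0 1)
    rw [← h3, mul_inv_cancel_right, h.cc_v b c q]
  have h3 : cc F v p e p' (s * (p' * v 0 1 * p'⁻¹) * s⁻¹) = (d, 1) := by
    apply h.cc_eq b c q
    rw [← q.p_act s (b.cen_le_N i (UU_le_cen j hsU)) _ (h.Sg_W b hl)]
    have h4 : e d = d • e 1 := by rw [← LinearMap.map_smul, smul_eq_mul, mul_one]
    rw [sub_eq_iff_eq_add, h4] at h1
    rw [one_smul]
    exact h1
  rw [h.cc_act b c q hsd ha, h2, h3]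
  ext
  · simp [mul_comm]
  · simp

include b c q τ in
theorem inA [Finite G] [Finite F] [CharP F 2] {a0 : F} (ha0 : a0 ≠ 0) (ha1 : a0 ≠ 1) :
    In (WN V (Qd R i Q)) v (cc F v p e p') (WW V (R i)) (OO B U Q) (Qd R i Q) (WN U Q) U (nn w1 w2 1) (t a0) where
  comm := fun a ha b' hb' => h.Sg_comm b ha hb'
  v_mem := fun b' c' => V_le_WN _ _ (c.v_mem b' c')
  v_add := c.v_add
  v_inj := fun b' hb' => (c.v_one _ _ hb').1
  m_mul := fun a ha b' hb' => h.cc_mul b c q ha hb'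
  m_surj := fun x => h.cc_surj b c q x
  m_ker := fun a ha h0 => h.cc_ker b c q ha h0
  m_v := fun b' c' => h.cc_v b c q b' c'
  W_le := le_inf h.dat.WU (h.W_le_Qk τ)
  W_full := fun l => ⟨w1 l, c.w1_mem l, fun c' => by rw [c.w1_act, zero_add]⟩
  P_W := fun p hp w hw => conj_inv_mem_of_normalizer (normalizer_le_WW V (R i) (h.mem_N hp)) hw
  O_le := inf_le_left
  O_act := by
    intro w hw a ha
    have hwd : w ∈ Qd R i Q := h.U_le_Qd b.toBT hw.1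
    have hwa := BTwo.conj_mem_of_normalizer (P_norm_WN (V := V) hwd) ha
    have h1 : a⁻¹ * (w * a * w⁻¹) ∈ WN V (Qd R i Q) := mul_mem (inv_mem ha) hwa
    obtain ⟨r, hr⟩ := h.cc_ker b c q h1 (by
      have h2 := h.cc_mul b c q ha h1
      rw [mul_inv_cancel_left, h.cc_O b c τ q hw ha] at h2
      exact left_eq_add.1 h2)
    exact ⟨r, by rw [← hr, mul_inv_cancel_left]⟩
  O_N := by
    intro w hw
    obtain ⟨w', hw', hc⟩ := h.dat.UC w hw.1
    obtain ⟨s, hs⟩ := c.W1_act w' hw'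
    refine ⟨s, fun c' => ?_⟩
    have h2 := mem_centralizer_iff.1 hc _ (c.v_mem 0 c')
    have h3 : (w'⁻¹ * w) * v 0 c' * (w'⁻¹ * w)⁻¹ = v 0 c' := by rw [← h2, mul_inv_cancel_right]
    have e1 : w * v 0 c' * w⁻¹ = w' * ((w'⁻¹ * w) * v 0 c' * (w'⁻¹ * w)⁻¹) * w'⁻¹ := by group
    rw [e1, h3, hs, zero_add]
  P_O := by
    intro g hg w hw
    have h1 := Qk_conj hw.2 hg.1
    exact mem_inf.2 ⟨h.pan.conj_mem_U hw.1 (Qk_le _ _ h1), h1⟩
  P_Sg := P_norm_WN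
  P_R := fun g hg r => h.nd.conj_R hg ((c.mem_R1 _).2 ⟨r, rfl⟩)
  P_lin := fun g hg => h.cc_lin b c q hg
  E_le := h.E_le τ b.toBT
  E_mv := by
    obtain ⟨g, hg, b', hb', e1⟩ := h.pan.exists_mul h.mem.1
    refine ⟨g, hg, ?_⟩
    have h1 := c.v_mem 0 1
    have h2 : b' * v 0 1 * b'⁻¹ ∈ V := BTwo.conj_mem_of_normalizer (h.dat.BV hb') h1
    obtain ⟨r, s, h3⟩ := (c.mem_V _).1 h2
    refine ⟨s, ?_⟩
    have h4 : p' * v 0 1 * p'⁻¹ = g * v r s * g⁻¹ := by rw [h3, e1]; group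
    have hgd := h.E_le τ b.toBT hg
    have h5 : g * v r s * g⁻¹ = v r 0 * (g * v 0 s * g⁻¹) := by
      have h6 := c.v_add r 0 0 s
      rw [add_zero, zero_add] at h6
      have h7 := h.nd.conj_R hgd ((c.mem_R1 _).2 ⟨r, rfl⟩)
      calc g * v r s * g⁻¹ = (g * v r 0 * g⁻¹) * (g * v 0 s * g⁻¹) := by rw [h6]; group
        _ = _ := by rw [h7]
    have h6 : cc F v p e p' (p' * v 0 1 * p'⁻¹) = (0, 1) := h.cc_line b c q 0 1
    have hvs : v 0 s ∈ WN V (Qd R i Q) := V_le_WN _ _ (c.v_mem 0 s)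
    have hgs := BTwo.conj_mem_of_normalizer (P_norm_WN (V := V) hgd) hvs
    rw [h4, h5, h.cc_mul b c q (V_le_WN _ _ (c.v_mem r 0)) hgs, h.cc_v b c q] at h6
    have h7 := congrArg Prod.snd h6
    rw [Prod.snd_add, zero_add] at h7
    rw [h7]
    exact one_ne_zero
  n_mem := by
    rw [cn_W c b.toBT]
    exact c.nn_mem_X b.toBT 1
  n_v := fun b' c' => by
    rw [c.nn_act one_ne_zero, inv_one, one_mul, one_mul]
  n_N := by
    intro a ha
    have h1 := b.XD (c.nn_mem_X b.toBT 1) (h.Sg_D b ha)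
    obtain ⟨r, s, h2⟩ := (c.mem_V _).1 h1
    refine ⟨r, s, ?_⟩
    have h3 : v r s ∈ WN V (Qd R i Q) := V_le_WN _ _ (c.v_mem r s)
    rw [h.Sg_comm b ha h3, h2]
    group
  isP := h.pan.isP
  U_E := by
    have h1 := line_le_WN (V := U) (one_mem Q)
    rwa [cj_one] at h1
  U_odd := h.pan.odd_U' (h.U_le_Qd b.toBT) inf_le_left
  U_X := by
    intro u hu
    rw [cn_W c b.toBT]
    obtain ⟨y, hy, h1⟩ := h.exists_Uj b.toBT h.mem h.ne hu
    have hyU := h.Uj_le b.toBT hy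
    exact ⟨y, YY_le_XX (UU_le_YY j hy), hyU, mem_inf.2 ⟨mul_mem (inv_mem hyU) hu, h1⟩⟩
  U_full := h.U_full b c q ⟨a0, ha0, ha1⟩ τ
  t_mem := by
    rw [cn_W c b.toBT]
    exact τ.memX a0 ha0
  t_v := ⟨a0, ha1, fun r => by rw [τ.act _ _ _ ha0, mul_zero]⟩
  t_P := h.Qd_norm τ (h.pan.le (h.TB a0 ha0))
  t_U := h.pan.norm (h.TB a0 ha0)

include b c q τ in
/-- **type `(α)`: the data of `OutA.resA`** -/
theorem outA [Finite G] [Finite F] [CharP F 2] {a0 : F} (ha0 : a0 ≠ 0) (ha1 : a0 ≠ 1) :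
    OutA (WN V (Qd R i Q)) v (cc F v p e p') (WW V (R i)) (OO B U Q) (Qd R i Q) (WN U Q) U B (nn w1 w2 1) (t a0) where
  inp := h.inA b c τ q ha0 ha1
  E_gen := fun N hN => h.pan.WN_gen hN
  B_le := by
    rw [cn_W c b.toBT]
    intro x hx
    obtain ⟨a, ha, h1⟩ := h.sc x (h.pan.le hx)
    have e1 : x = (t a)⁻¹ * (t a * x) := by group
    rw [e1]
    exact mul_mem (mem_sup_left (inv_mem (τ.memX a ha)))
      (mem_sup_right (mem_inf.2 ⟨h.pan.le (mul_mem (h.TB a ha) hx), h1⟩))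
  U_B := h.pan.UB
  B_U := fun x hx u hu => BTwo.conj_mem_of_normalizer (h.pan.norm hx) hu
  B_N := by
    intro x hx r s
    obtain ⟨r', s', e1⟩ := (c.mem_V _).1 (BTwo.conj_mem_of_normalizer (h.dat.BV hx) (c.v_mem r s))
    exact ⟨r', s', e1.symm⟩
  B_R := by
    intro x hx r
    obtain ⟨r', e1⟩ := (c.mem_R1 _).1 (BTwo.conj_mem_of_normalizer (h.dat.BR hx) ((c.mem_R1 _).2 ⟨r, rfl⟩))
    exact ⟨r', e1.symm⟩
  B_E := fun x hx y hy => BTwo.conj_mem_of_normalizer (P_norm_WN (h.pan.le hx)) hy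
  X_nor := by
    intro g _ hg x hx
    rw [cn_W c b.toBT] at hx ⊢
    have hgV : g ∈ normalizer (V : Set G) := by
      have : Finite V := inferInstance
      rw [← cj_eq_self_iff]
      have h1 : cj g V ≤ V := by
        rw [cj_le_iff]
        intro z hz
        obtain ⟨r, s, rfl⟩ := (c.mem_V z).1 hz
        obtain ⟨r', s', h2⟩ := hg r s
        rw [h2]
        exact c.v_mem r' s'
      exact eq_of_le_of_card_ge h1 (card_cj g V).ge
    exact BTwo.conj_mem_of_normalizer (b.NV_le_NX hgV) hx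
  X_ker := by
    intro x hx hxa
    rw [cn_W c b.toBT] at hx
    have hxV : x ∈ centralizer (V : Set G) := by
      rw [mem_centralizer_iff]
      intro z hz
      have h1 := hxa z (V_le_WN _ _ hz)
      rw [mul_inv_eq_iff_eq_mul] at h1
      exact h1.symm
    have h1 : x ∈ YY V R := by
      rw [← Cfsg.Agent.Omega.HOne.XV.cen_X_V ⟨a0, ha0, ha1⟩ b c]
      exact mem_inf.2 ⟨hx, hxV⟩
    have h2 : IsPGroup 2 (XX V R ⊓ centralizer (V : Set G) : Subgroup G) :=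
      Lie.coord_cen_X_V_isPGroup b.toBT c (b.cen_W_isPGroup i)
    exact h.le_U (h2.to_le (le_inf YY_le_XX YY_le_cen)) YY_le_XX (YY_le_cen.trans (b.cen_le_N i)) h1
  bX := by
    intro x hx hxU
    rw [cn_W c b.toBT] at hx
    have hx0 : x ∈ P0 V R B := (sup_le_sup_left h.pan.UB _) hx
    refine Zero.mem_B b.toBT h.dat hx0 ?_
    -- `R i = C_V(U)`
    have hxV : x ∈ normalizer (V : Set G) := P0_le b.toBT h.dat hx0
    have key : ∀ x ∈ normalizer (U : Set G), x ∈ normalizer (V : Set G) → ∀ a ∈ R i, x * a * x⁻¹ ∈ R i := by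
      intro x hxU hxV a ha
      refine b.cen_VW (BTwo.conj_mem_of_normalizer hxV (b.R_le i ha)) ?_
      rw [mem_centralizer_iff]
      intro w hw
      have h1 := conj_inv_mem_of_normalizer hxU (h.dat.WU hw)
      have h2 := mem_centralizer_iff.1 (h.U_cen b.toBT h1) a ha
      calc w * (x * a * x⁻¹) = x * ((x⁻¹ * w * x) * a) * x⁻¹ := by group
        _ = x * (a * (x⁻¹ * w * x)) * x⁻¹ := by rw [h2]
        _ = x * a * x⁻¹ * w := by group
    rw [mem_normalizer_iff]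
    intro a
    refine ⟨key x hxU hxV a, fun ha => ?_⟩
    have h1 := key x⁻¹ (inv_mem hxU) (inv_mem hxV) _ ha
    have e1 : x⁻¹ * (x * a * x⁻¹) * x⁻¹⁻¹ = a := by group
    rwa [e1] at h1
  bE := fun x hx hxU => h.pan.mem_B_of_norm (h.pan.WN_le_Q hx) hxU

include b c τ in
/-- **The residue of a moved node of type `(α)` is `PG(2, q)`.** -/
theorem exists_resA [Finite G] [Finite F] [CharP F 2] (hF : 4 ≤ Nat.card F) {I : Type*} {P : I → Subgroup G}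
    (hle : ∀ a, B ≤ P a) {z k : I} (hz : P z = P0 V R B) (hk : P k = Q) :
    ∃ ρ : ↥(P z ⊔ P k) →* GL (Fin 3) F, ResA B U P z k ρ := by
  obtain ⟨a0, ha0, ha1⟩ := exists_ne_of_card hF
  obtain ⟨M, _, _, p, m⟩ := exists_MZ b.toBT i
  obtain ⟨_, f, e, ω, σ, κ, q⟩ := m.exists_fq ⟨a0, ha0, ha1⟩ b.toBT c τ
  have D := h.outA b c τ q ha0 ha1
  have hi : P z = (WW V (R i) ⊔ cn (nn w1 w2 1) (WW V (R i))) ⊔ B := by
    rw [hz, cn_W c b.toBT]
  have hj : P k = WN U Q ⊔ B := by rw [hk, h.pan.sup_eq]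
  exact ⟨_, D.resA hF hle hi hj⟩

include b c τ in
/-- **type `(α)`: the fields `poly` and `frat` of `Res0`.** -/
theorem polygon_frat [Finite G] [Finite F] [CharP F 2] (hF : 4 ≤ Nat.card F) {J : Type} {P : J → Subgroup G} {k : J}
    (hle : ∀ a, B ≤ P a) (hk : P k = Q) : ∃ m0, 3 ≤ m0 ∧
      Polygon B (Lie.End.PPo V R B P) none (some k) m0 ∧
      ∀ X ≤ U, (∀ u ∈ U, ∃ x ∈ X, x⁻¹ * u ∈ Qk B (P k) ∧ x⁻¹ * u ∈ Qk B (P0 V R B)) →
        ∀ u ∈ U, ∃ x ∈ X, x⁻¹ * u ∈ Qk B (P k ⊔ P0 V R B) := by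
  have hle' : ∀ a, B ≤ Lie.End.PPo V R B P a := by
    rintro (_ | a)
    · exact le_sup_right
    · exact hle a
  obtain ⟨ρ, D⟩ := h.exists_resA b c τ hF (P := Lie.End.PPo V R B P) hle' (z := none) (k := some k) rfl hk
  have D' := D.resOut hF
  obtain ⟨m0, hm0, hpoly⟩ := D'.poly
  refine ⟨m0, hm0, hpoly, fun X hX hX' u hu => ?_⟩
  obtain ⟨x, hx, h1⟩ := D'.frat X hX (fun u hu => by
    obtain ⟨x, hx, h1, h2⟩ := hX' u hu
    exact ⟨x, hx, h2, h1⟩) u hu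
  have e1 : P k ⊔ P0 V R B = Lie.End.PPo V R B P none ⊔ Lie.End.PPo V R B P (some k) := sup_comm _ _
  exact ⟨x, hx, by rw [e1]; exact h1⟩

include b c τ in
/-- **type `(α)`: `Res0`.** -/
theorem exists_res0 [Finite G] [Finite F] [CharP F 2] (hF : 4 ≤ Nat.card F) {J : Type} {P : J → Subgroup G} {k : J}
    (hle : ∀ a, B ≤ P a) (hk : P k = Q)
    (sep : SepG 2 B U (P k) (P0 V R B) ∨ SepG 2 B U (P0 V R B) (P k)) :
    ∃ m0, 3 ≤ m0 ∧ Lie.End.Res0 V R B U P k m0 := by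
  obtain ⟨m0, hm0, h1, h2⟩ := h.polygon_frat b c τ hF hle hk
  exact ⟨m0, hm0, h1, h2, sep⟩

end NodA

/-- **`NodB`** from the panel, `Q_i ≤ U` and "`U_j` covers `U / Q_k`" -/
theorem NodB.of_cov (b : BT V R) (c : Coord V R i j v w1 w2) {B U Q : Subgroup G} (dat : Dat V R i B U) (pan : Pan B U Q)
    (TB : ∀ a, a ≠ 0 → t a ∈ B) (sc : ∀ x ∈ Q, ∃ a : F, a ≠ 0 ∧ t a * x ∈ centralizer (R i : Set G))
    (hQ : QQ (R i) ≤ U) (hUj : UU V R j ≤ U) (cov : ∀ u ∈ U, ∃ y ∈ UU V R j, y⁻¹ * u ∈ Qk B Q)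
    (hmv : ¬ Q ≤ normalizer (V : Set G))
    (four : ∃ a ∈ Q, ∃ a' ∈ Q, ∃ a'' ∈ Q, a ∉ B ∧ a' ∉ B ∧ a'' ∉ B ∧ a⁻¹ * a' ∉ B ∧ a⁻¹ * a'' ∉ B ∧ a'⁻¹ * a'' ∉ B) :
    NodB V R i j t B U Q where
  dat := dat
  pan := pan
  TB := TB
  sc := sc
  nd := by
    have hcen : U ≤ centralizer (R i : Set G) := by
      intro u hu
      obtain ⟨w, hw, hc⟩ := dat.UC u hu
      rw [mem_centralizer_iff]
      intro a ha
      have h1 := b.QR i w (b.W_le_Q i hw) a ha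
      have h2 := mem_centralizer_iff.1 hc a (b.R_le i ha)
      have e : u = w * (w⁻¹ * u) := by group
      rw [e]
      calc a * (w * (w⁻¹ * u)) = (a * w) * (w⁻¹ * u) := by group
        _ = w * (a * (w⁻¹ * u)) := by rw [← h1]; group
        _ = w * (w⁻¹ * u) * a := by rw [h2]; group
    have hB : ∀ x ∈ Q, x ∈ normalizer (V : Set G) → x ∈ B := fun x hx hV =>
      pan.mem_B_of_stab (S := normalizer (V : Set G)) dat.BV hmv hx hV
    -- an element of `x B` in `C(R i)`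
    have hcoset : ∀ x ∈ Q, ∃ y ∈ Qd R i Q, x⁻¹ * y ∈ B := by
      intro x hx
      obtain ⟨a, ha, h1⟩ := sc x⁻¹ (inv_mem hx)
      have h2 := inv_mem h1
      have e : (t a * x⁻¹)⁻¹ = x * (t a)⁻¹ := by group
      rw [e] at h2
      have h3 : (t a)⁻¹ ∈ B := inv_mem (TB a ha)
      exact ⟨x * (t a)⁻¹, mem_inf.2 ⟨mul_mem hx (pan.le h3), h2⟩, by rwa [inv_mul_cancel_left]⟩
    have hline : ∀ x ∈ Q, ∀ y ∈ Q, cj x V = cj y V → x⁻¹ * y ∈ B := by
      intro x hx y hy e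
      refine hB _ (mul_mem (inv_mem hx) hy) ?_
      rw [← cj_eq_self_iff, cj_mul, ← e, cj_inv_cj]
    exact {
      hij := c.ne
      PR := inf_le_right
      UP := (le_inf (pan.U_le_Q) hcen).trans' hUj
      QP := (le_inf (pan.U_le_Q) hcen).trans' hQ
      trans := by
        intro x hx hxV y hy hyV
        have hxB : x ∉ B := fun hc => hxV (cj_eq_self_iff.2 (dat.BV hc))
        have hyB : y ∉ B := fun hc => hyV (cj_eq_self_iff.2 (dat.BV hc))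
        obtain ⟨u, hu, b', hb', rfl⟩ := pan.ptr x hx.1 hxB y hy.1 hyB
        obtain ⟨z, hz, h1⟩ := cov u hu
        refine ⟨z, hz, ?_⟩
        have h2 : x⁻¹ * (z⁻¹ * u) * x ∈ normalizer (V : Set G) := dat.BV (h1 x hx.1)
        have e1 : u * x * b' = z * x * (x⁻¹ * (z⁻¹ * u) * x) * b' := by group
        rw [e1, cj_mul, cj_mul, cj_mul, cj_eq_self_iff.2 (dat.BV hb'), cj_eq_self_iff.2 h2]
      four := by
        obtain ⟨a, ha, a', ha', a'', ha'', n1, n2, n3, n4, n5, n6⟩ := four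
        obtain ⟨x, hx, h1⟩ := hcoset a ha
        obtain ⟨x', hx', h1'⟩ := hcoset a' ha'
        obtain ⟨x'', hx'', h1''⟩ := hcoset a'' ha''
        have k1 : ∀ a ∈ Q, ∀ x ∈ Qd R i Q, a⁻¹ * x ∈ B → a ∉ B → cj x V ≠ V := by
          intro a ha x hx h1 n1 hc
          apply n1
          have h2 := hB x hx.1 (cj_eq_self_iff.1 hc)
          have h3 := mul_mem h2 (inv_mem h1)
          have e : x * (a⁻¹ * x)⁻¹ = a := by group
          rwa [e] at h3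
        have k2 : ∀ a ∈ Q, ∀ a' ∈ Q, ∀ x ∈ Qd R i Q, ∀ x' ∈ Qd R i Q, a⁻¹ * x ∈ B → a'⁻¹ * x' ∈ B → a⁻¹ * a' ∉ B →
            cj x V ≠ cj x' V := by
          intro a ha a' ha' x hx x' hx' h1 h1' n1 hc
          apply n1
          have h2 := hline x hx.1 x' hx'.1 hc
          have h3 := mul_mem (mul_mem h1 h2) (inv_mem h1')
          have e : a⁻¹ * x * (x⁻¹ * x') * (a'⁻¹ * x')⁻¹ = a⁻¹ * a' := by group
          rwa [e] at h3
        exact ⟨x, hx, x', hx', x'', hx'', k1 a ha x hx h1 n1, k1 a' ha' x' hx' h1' n2, k1 a'' ha'' x'' hx'' h1'' n3,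
          k2 a ha a' ha' x hx x' hx' h1 h1' n4, k2 a ha a'' ha'' x hx x'' hx'' h1 h1'' n5,
          k2 a' ha' a'' ha'' x' hx' x'' hx'' h1' h1'' n6⟩ }

end Cfsg.Agent.Omega.HSplit.Alpha
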