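import Cfsg.Agent.Lib.SL2Mat

/-!
# The residue of type `(α)`: the action on `Σ = V_j`, `|Σ| = q³`, is `F`-linear (#14148, 8.2)

`M` an additive group on which `Γ` acts.  `v b c` : the elements of `N`, `v b 0` : the elements of `R₁`;
`m : M → F²` : an `F`-structure of `M / R₁` with `m (v b c) = (c, 0)`.
`O` acts trivially on `R₁` and on `M / R₁`, `n` swaps `R₁` and `R₂ = {v 0 c}` and acts trivially on `M / N`;
`P` centralises `R₁`, normalises `O` and acts `F`-linearly on `M / R₁`; `S ≤ P` has odd index and lies in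
`⟨O, O^n⟩`; `t ∈ ⟨O, O^n⟩` normalises `P` and `S`, is trivial on `M / N` and fixed-point-free on `R₁`.

`Dat.crd : M ≃+ F³` are coordinates in which `⟨O, O^n, P⟩` acts by matrices (`Dat.lin`).
-/

set_option autoImplicit false

namespace Cfsg.Agent.Omega.HSplit.LinA

open Cfsg.Agent.Lib.SL2Mat

variable {F : Type*} [Field F] {Γ : Type*} [Group Γ] {M : Type*} [AddCommGroup M] [DistribMulAction Γ M]

/-- `n O n⁻¹` -/
def cn (n : Γ) (O : Subgroup Γ) : Subgroup Γ := O.map (MulAut.conj n).toMonoidHom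

theorem mem_cn {n : Γ} {O : Subgroup Γ} {x : Γ} : x ∈ cn n O ↔ ∃ w ∈ O, n * w * n⁻¹ = x := Iff.rfl

/-- The data. -/
structure Dat (v : F → F → M) (m : M → F × F) (O P S : Subgroup Γ) (n t : Γ) : Prop where
  v_add : ∀ b c b' c', v (b + b') (c + c') = v b c + v b' c'
  v_inj : ∀ b, v b 0 = 0 → b = 0
  m_add : ∀ a b, m (a + b) = m a + m b
  m_surj : ∀ x, ∃ a, m a = x
  m_ker : ∀ a, m a = 0 → ∃ b, a = v b 0
  m_v : ∀ b c, m (v b c) = (c, 0)
  O_act : ∀ w ∈ O, ∀ a, ∃ b, w • a = a + v b 0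
  O_R : ∀ w ∈ O, ∀ b, w • v b 0 = v b 0
  O_N : ∀ w ∈ O, ∃ l : F, ∀ c, w • v 0 c = v (l * c) c
  P_R : ∀ p ∈ P, ∀ b, p • v b 0 = v b 0
  P_lin : ∀ p ∈ P, ∃ A : (F × F) →ₗ[F] (F × F), ∀ a, m (p • a) = A (m a)
  P_tr : ∀ x : F × F, x ≠ 0 → ∃ p ∈ P, ∀ a, m a = (1, 0) → m (p • a) = x
  P_O : ∀ p ∈ P, ∀ w ∈ O, p⁻¹ * w * p ∈ O
  n_v : ∀ b c, n • v b c = v c b
  n_N : ∀ a, ∃ b c, n • a = a + v b c
  S_le : S ≤ P
  S_O : S ≤ O ⊔ cn n O
  S_odd : Odd (S.relIndex P)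
  S_full : ∀ c : F, ∃ s ∈ S, ∃ a, m (s • a) = m a + (c, 0)
  t_mem : t ∈ O ⊔ cn n O
  t_v : ∃ u : F, u ≠ 1 ∧ ∀ b, t • v b 0 = v (u * b) 0
  t_N : ∀ a, ∃ b c, t • a = a + v b c
  t_P : t ∈ Subgroup.normalizer (P : Set Γ)
  t_S : t ∈ Subgroup.normalizer (S : Set Γ)

namespace Dat

variable {v : F → F → M} {m : M → F × F} {O P S : Subgroup Γ} {n t : Γ} (D : Dat v m O P S n t)
include D

theorem v_zero : v 0 0 = 0 := by
  have := D.v_add 0 0 0 0
  rw [add_zero] at this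
  exact left_eq_add.1 this

theorem m_zero : m 0 = 0 := by
  have := D.m_add 0 0
  rw [add_zero] at this
  exact left_eq_add.1 this

theorem m_neg (a : M) : m (-a) = - m a := by
  rw [eq_neg_iff_add_eq_zero, ← D.m_add, neg_add_cancel, D.m_zero]

theorem m_sub (a b : M) : m (a - b) = m a - m b := by
  rw [sub_eq_add_neg, D.m_add, D.m_neg, ← sub_eq_add_neg]

theorem v_split (b c : F) : v b c = v b 0 + v 0 c := by
  rw [← D.v_add, add_zero, zero_add]

theorem v_neg (b c : F) : v (-b) (-c) = - v b c := by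
  rw [eq_neg_iff_add_eq_zero, ← D.v_add, neg_add_cancel, neg_add_cancel, D.v_zero]

theorem v_sub (b c b' c' : F) : v (b - b') (c - c') = v b c - v b' c' := by
  rw [sub_eq_add_neg, sub_eq_add_neg, D.v_add, D.v_neg, ← sub_eq_add_neg]

theorem v_eq_zero {b c : F} (h : v b c = 0) : b = 0 ∧ c = 0 := by
  have h1 := D.m_v b c
  rw [h, D.m_zero] at h1
  have hc : c = 0 := (congrArg Prod.fst h1).symm
  subst hc
  exact ⟨D.v_inj b h, rfl⟩

theorem v_eq {b c b' c' : F} (h : v b c = v b' c') : b = b' ∧ c = c' := by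
  have h1 : v (b - b') (c - c') = 0 := by rw [D.v_sub, h, sub_self]
  have h2 := D.v_eq_zero h1
  exact ⟨sub_eq_zero.1 h2.1, sub_eq_zero.1 h2.2⟩

theorem ninv_v (b c : F) : n⁻¹ • v b c = v c b := by
  rw [inv_smul_eq_iff, D.n_v]

theorem ninv_N (a : M) : ∃ b c, n⁻¹ • a = a + v b c := by
  obtain ⟨b, c, h⟩ := D.n_N (n⁻¹ • a)
  rw [smul_inv_smul] at h
  refine ⟨-b, -c, ?_⟩
  rw [D.v_neg, eq_add_neg_iff_add_eq]
  exact h.symm

/-! ### Coordinates -/

omit D in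
/-- the first coordinate -/
def x0 (m : M → F × F) (n : Γ) (a : M) : F := (m (n⁻¹ • a)).1

theorem x0_add (a b : M) : x0 m n (a + b) = x0 m n a + x0 m n b := by
  unfold x0
  rw [smul_add, D.m_add, Prod.fst_add]

theorem x0_v (b c : F) : x0 m n (v b c) = b := by
  unfold x0
  rw [D.ninv_v, D.m_v]

theorem snd_ninv (a : M) : (m (n⁻¹ • a)).2 = (m a).2 := by
  obtain ⟨b, c, h⟩ := D.ninv_N a
  rw [h, D.m_add, D.m_v, Prod.snd_add, add_zero]

theorem crd_inj {a a' : M} (h0 : x0 m n a = x0 m n a') (h : m a = m a') : a = a' := by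
  have h1 : m (a - a') = 0 := by rw [D.m_sub, h, sub_self]
  obtain ⟨b, hb⟩ := D.m_ker _ h1
  have h2 : x0 m n a = x0 m n a' + x0 m n (v b 0) := by
    rw [← D.x0_add, ← hb, add_sub_cancel]
  rw [D.x0_v, h0, left_eq_add] at h2
  rw [h2, D.v_zero, sub_eq_zero] at hb
  exact hb

theorem crd_surj (x y z : F) : ∃ a, x0 m n a = x ∧ m a = (y, z) := by
  obtain ⟨a, ha⟩ := D.m_surj (y, z)
  refine ⟨a + v (x - x0 m n a) 0, ?_, ?_⟩
  · rw [D.x0_add, D.x0_v, add_sub_cancel]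
  · rw [D.m_add, D.m_v, ha]
    ext <;> simp

/-- the coordinates -/
noncomputable def crd : M ≃+ (Fin 3 → F) :=
  AddEquiv.ofBijective
    ({ toFun := fun a => ![x0 m n a, (m a).1, (m a).2]
       map_zero' := by
        have h0 : x0 m n (0 : M) = 0 := by
          unfold x0
          rw [smul_zero, D.m_zero]; rfl
        rw [h0, D.m_zero]
        ext i; fin_cases i <;> rfl
       map_add' := fun a b => by
        rw [D.x0_add, D.m_add]
        ext i; fin_cases i <;> rfl } : M →+ (Fin 3 → F))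
    ⟨by
      intro a a' h
      have h0 := congrFun h 0
      have h1 := congrFun h 1
      have h2 := congrFun h 2
      exact D.crd_inj h0 (Prod.ext h1 h2), by
      intro x
      obtain ⟨a, h0, h1⟩ := D.crd_surj (x 0) (x 1) (x 2)
      refine ⟨a, ?_⟩
      show ![x0 m n a, (m a).1, (m a).2] = x
      rw [h0, h1]
      ext i; fin_cases i <;> rfl⟩

theorem crd_apply (a : M) : D.crd a = ![x0 m n a, (m a).1, (m a).2] := rfl

theorem crd_v (b c : F) : D.crd (v b c) = ![b, c, 0] := by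
  rw [crd_apply, D.x0_v, D.m_v]

/-! ### Scalars -/

/-- multiplication with a scalar -/
noncomputable def sc (c : F) (a : M) : M := D.crd.symm (c • D.crd a)

theorem crd_sc (c : F) (a : M) : D.crd (D.sc c a) = c • D.crd a := by
  unfold sc
  rw [AddEquiv.apply_symm_apply]

theorem x0_sc (c : F) (a : M) : x0 m n (D.sc c a) = c * x0 m n a := by
  have h := congrFun (D.crd_sc c a) 0
  exact h

theorem m_sc (c : F) (a : M) : m (D.sc c a) = c • m a := by
  have h1 := congrFun (D.crd_sc c a) 1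
  have h2 := congrFun (D.crd_sc c a) 2
  exact Prod.ext h1 h2

theorem sc_add (c : F) (a b : M) : D.sc c (a + b) = D.sc c a + D.sc c b := by
  apply D.crd.injective
  rw [map_add, D.crd_sc, D.crd_sc, D.crd_sc, map_add, smul_add]

theorem sc_v (c b d : F) : D.sc c (v b d) = v (c * b) (c * d) := by
  apply D.crd.injective
  rw [D.crd_sc, D.crd_v, D.crd_v]
  ext i; fin_cases i <;> simp

theorem eq_add_v {a a' : M} (h : m a = m a') : ∃ b, a = a' + v b 0 := by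
  obtain ⟨b, hb⟩ := D.m_ker (a - a') (by rw [D.m_sub, h, sub_self])
  exact ⟨b, by rw [← hb, add_sub_cancel]⟩

/-- the elements of `Γ` which act linearly -/
noncomputable def LinS : Subgroup Γ where
  carrier := {g | ∀ c a, g • D.sc c a = D.sc c (g • a)}
  one_mem' := fun c a => by rw [one_smul, one_smul]
  mul_mem' := fun {g h} hg hh c a => by rw [mul_smul, mul_smul, hh, hg]
  inv_mem' := fun {g} hg c a => by
    rw [inv_smul_eq_iff, hg, smul_inv_smul]

theorem mem_LinS {g : Γ} : g ∈ D.LinS ↔ ∀ c a, g • D.sc c a = D.sc c (g • a) := Iff.rfl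

/-! ### The group `O` -/

/-- the function `c(w, ·)` is linear -/
theorem O_key {w : Γ} (hw : w ∈ O) (a : M) : ∃ l : F, w • a = a + v l 0 ∧
    ∀ c a', m a' = c • m a → w • a' = a' + v (c * l) 0 := by
  by_cases hx : m a = 0
  · refine ⟨0, ?_, ?_⟩
    · obtain ⟨b, rfl⟩ := D.m_ker a hx
      rw [D.O_R w hw, D.v_zero, add_zero]
    · intro c a' h
      rw [hx, smul_zero] at h
      obtain ⟨b, rfl⟩ := D.m_ker a' h
      rw [D.O_R w hw, mul_zero, D.v_zero, add_zero]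
  obtain ⟨p, hp, hpx⟩ := D.P_tr (m a) hx
  obtain ⟨A, hA⟩ := D.P_lin p hp
  have hw' := D.P_O p hp w hw
  obtain ⟨l, hl⟩ := D.O_N _ hw'
  have key : ∀ c a', m a' = c • m a → w • a' = a' + v (c * l) 0 := by
    intro c a' h
    have h1 : m (p • v 0 c) = m a' := by
      rw [hA, D.m_v, h, ← hpx (v 0 1) (D.m_v 0 1), hA, D.m_v, ← map_smul]
      congr 1
      ext <;> simp
    obtain ⟨b, hb⟩ := D.eq_add_v h1.symm
    have h2 : a' = p • v b c := by
      rw [hb, D.v_split b c, smul_add, D.P_R p hp, add_comm]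
    have h3 : (p⁻¹ * w * p) • v b c = v b c + v (c * l) 0 := by
      rw [D.v_split b c, smul_add, D.O_R _ hw', hl, ← D.v_split b c, ← D.v_add, ← D.v_add, add_zero, zero_add,
        mul_comm c l]
    have h4 : w • a' = p • ((p⁻¹ * w * p) • v b c) := by
      rw [h2, ← mul_smul, ← mul_smul]
      congr 1
      group
    rw [h4, h3, smul_add, D.P_R p hp, ← h2]
  refine ⟨l, ?_, key⟩
  have := key 1 a (by rw [one_smul])
  rwa [one_mul] at this

theorem O_le_LinS : O ≤ D.LinS := by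
  intro w hw c a
  obtain ⟨l, h1, h2⟩ := D.O_key hw a
  rw [h2 c _ (D.m_sc c a), h1, D.sc_add, D.sc_v, mul_zero]

theorem cn_le_LinS : cn n O ≤ D.LinS := by
  rintro _ ⟨w, hw, rfl⟩ c a
  show (n * w * n⁻¹) • D.sc c a = D.sc c ((n * w * n⁻¹) • a)
  obtain ⟨l, h1, h2⟩ := D.O_key hw (n⁻¹ • a)
  have hm : m (n⁻¹ • D.sc c a) = c • m (n⁻¹ • a) := by
    apply Prod.ext
    · exact D.x0_sc c a
    · rw [D.snd_ninv, D.m_sc]
      show c • (m a).2 = c • (m (n⁻¹ • a)).2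
      rw [D.snd_ninv]
  have h3 := h2 c _ hm
  rw [mul_smul, mul_smul, mul_smul, mul_smul, h1, h3, smul_add, smul_add, smul_inv_smul, smul_inv_smul, D.n_v,
    D.n_v, D.sc_add, D.sc_v, mul_zero]

theorem X_le_LinS : O ⊔ cn n O ≤ D.LinS := sup_le D.O_le_LinS D.cn_le_LinS

/-! ### The group `P` -/

omit D in
/-- `x₀(g a) - x₀(a)` -/
def kk (m : M → F × F) (n g : Γ) (a : M) : F := x0 m n (g • a) - x0 m n a

/-- the deviation from linearity -/
noncomputable def dl (c : F) (g : Γ) (a : M) : F := kk m n g (D.sc c a) - c * kk m n g a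

theorem kk_add (g : Γ) (a b : M) : kk m n g (a + b) = kk m n g a + kk m n g b := by
  unfold kk
  rw [smul_add, D.x0_add, D.x0_add]; ring

theorem kk_R {p : Γ} (hp : p ∈ P) (b : F) : kk m n p (v b 0) = 0 := by
  unfold kk
  rw [D.P_R p hp, sub_self]

omit D in
theorem kk_mul (g h : Γ) (a : M) : kk m n (g * h) a = kk m n g (h • a) + kk m n h a := by
  unfold kk
  rw [mul_smul]; ring

theorem P_sc {p : Γ} (hp : p ∈ P) (c : F) (a : M) : ∃ b, p • D.sc c a = D.sc c (p • a) + v b 0 := by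
  obtain ⟨A, hA⟩ := D.P_lin p hp
  apply D.eq_add_v
  rw [hA, D.m_sc, D.m_sc, hA, map_smul]

theorem dl_add (c : F) (g : Γ) (a b : M) : D.dl c g (a + b) = D.dl c g a + D.dl c g b := by
  unfold dl
  rw [D.sc_add, D.kk_add, D.kk_add]; ring

theorem dl_mul (c : F) {g h : Γ} (hg : g ∈ P) (hh : h ∈ P) (a : M) :
    D.dl c (g * h) a = D.dl c g (h • a) + D.dl c h a := by
  obtain ⟨b, hb⟩ := D.P_sc hh c a
  unfold dl
  rw [kk_mul, kk_mul, hb, D.kk_add, D.kk_R hg]; ring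

theorem dl_of_lin (c : F) {g : Γ} (hg : g ∈ D.LinS) (a : M) : D.dl c g a = 0 := by
  unfold dl kk
  rw [hg c a, D.x0_sc, D.x0_sc]; ring

theorem dl_R (c : F) {p : Γ} (hp : p ∈ P) (b : F) : D.dl c p (v b 0) = 0 := by
  unfold dl
  rw [D.sc_v, mul_zero, D.kk_R hp, D.kk_R hp]; ring

theorem S_le_LinS : S ≤ D.LinS := D.S_O.trans D.X_le_LinS

theorem dl_S_mul (c : F) {s p : Γ} (hs : s ∈ S) (hp : p ∈ P) (a : M) : D.dl c (s * p) a = D.dl c p a := by
  rw [D.dl_mul c (D.S_le hs) hp, D.dl_of_lin c (D.S_le_LinS hs), zero_add]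

section sum

variable [Fintype (↥P ⧸ S.subgroupOf P)]

/-- the sum over the cosets of `S` in `P` -/
noncomputable def DD (c : F) (a : M) : F := ∑ q : ↥P ⧸ S.subgroupOf P, D.dl c (q.out : Γ)⁻¹ a

omit [Fintype (↥P ⧸ S.subgroupOf P)] in
theorem dl_out (c : F) (p : ↥P) (a : M) :
    D.dl c (((p : ↥P ⧸ S.subgroupOf P).out : ↥P) : Γ)⁻¹ a = D.dl c (p : Γ)⁻¹ a := by
  obtain ⟨s, hs⟩ := QuotientGroup.mk_out_eq_mul (S.subgroupOf P) p
  rw [hs]
  have h1 : ((p * (s : ↥P) : ↥P) : Γ)⁻¹ = ((s : ↥P) : Γ)⁻¹ * (p : Γ)⁻¹ := by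
    rw [Subgroup.coe_mul, mul_inv_rev]
  rw [h1]
  exact D.dl_S_mul c (inv_mem (Subgroup.mem_subgroupOf.1 s.2)) (inv_mem p.2) a

theorem DD_add (c : F) (a b : M) : D.DD c (a + b) = D.DD c a + D.DD c b := by
  unfold DD
  rw [← Finset.sum_add_distrib]
  exact Finset.sum_congr rfl fun q _ => D.dl_add _ _ _ _

theorem DD_R (c b : F) : D.DD c (v b 0) = 0 := by
  unfold DD
  exact Finset.sum_eq_zero fun q _ => D.dl_R c (inv_mem q.out.2) b

theorem card_odd [CharP F 2] (x : F) : (∑ _q : ↥P ⧸ S.subgroupOf P, x) = x := by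
  have h1 : Nat.card (↥P ⧸ S.subgroupOf P) = S.relIndex P := rfl
  have h2 := D.S_odd
  rw [← h1, Nat.card_eq_fintype_card] at h2
  obtain ⟨k, hk⟩ := h2
  rw [Finset.sum_const, Finset.card_univ, nsmul_eq_mul, hk]
  push_cast
  rw [CharTwo.two_eq_zero, zero_mul, zero_add, one_mul]

theorem DD_smul [CharP F 2] (c : F) {h : Γ} (hh : h ∈ P) (a : M) : D.DD c (h • a) = D.DD c a - D.dl c h a := by
  have h1 : ∀ q : ↥P ⧸ S.subgroupOf P, D.dl c (q.out : Γ)⁻¹ (h • a) =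
      D.dl c (((⟨h, hh⟩⁻¹ : ↥P) • q).out : Γ)⁻¹ a - D.dl c h a := by
    intro q
    rw [eq_sub_iff_add_eq, ← D.dl_mul c (inv_mem q.out.2) hh]
    have h2 : (⟨h, hh⟩⁻¹ : ↥P) • q = (((⟨h, hh⟩⁻¹ : ↥P) * q.out : ↥P) : ↥P ⧸ S.subgroupOf P) := by
      conv_lhs => rw [← QuotientGroup.out_eq' q]
      rfl
    rw [h2, D.dl_out]
    congr 1
    push_cast
    group
  unfold DD
  rw [Finset.sum_congr rfl fun q _ => h1 q, Finset.sum_sub_distrib, D.card_odd]
  congr 1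
  exact Equiv.sum_comp (MulAction.toPerm (⟨h, hh⟩⁻¹ : ↥P))
    (fun q : ↥P ⧸ S.subgroupOf P => D.dl c (q.out : Γ)⁻¹ a)

theorem DD_N [CharP F 2] (c b d : F) : D.DD c (v b d) = 0 := by
  obtain ⟨s, hs, a, ha⟩ := D.S_full d
  have h1 : m (s • a) = m (a + v 0 d) := by rw [ha, D.m_add, D.m_v]
  obtain ⟨b', hb'⟩ := D.eq_add_v h1
  have h2 := D.DD_smul c (D.S_le hs) a
  rw [D.dl_of_lin c (D.S_le_LinS hs), sub_zero, hb', D.DD_add, D.DD_add, D.DD_R, add_zero, add_eq_left] at h2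
  rw [D.v_split, D.DD_add, D.DD_R, h2, add_zero]

omit [Fintype (↥P ⧸ S.subgroupOf P)] in
theorem t_lin : t ∈ D.LinS := D.X_le_LinS D.t_mem

omit [Fintype (↥P ⧸ S.subgroupOf P)] in
theorem dl_t (c : F) {u : F} (hu : ∀ b, t • v b 0 = v (u * b) 0) {p : Γ} (hp : p ∈ P) (a : M) :
    D.dl c (t * p * t⁻¹) (t • a) = u * D.dl c p a := by
  -- `x₀(t a) = u x₀(a) + l(a)`
  set l : M → F := fun a => x0 m n (t • a) - u * x0 m n a with hl
  have l_add : ∀ a b, l (a + b) = l a + l b := fun a b => by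
    simp only [hl]
    rw [smul_add, D.x0_add, D.x0_add]; ring
  have l_R : ∀ b, l (v b 0) = 0 := fun b => by
    simp only [hl]
    rw [hu, D.x0_v, D.x0_v, sub_self]
  have l_sc : ∀ a, l (D.sc c a) = c * l a := fun a => by
    simp only [hl]
    rw [D.t_lin c a, D.x0_sc, D.x0_sc]; ring
  have hx : ∀ a, x0 m n (t • a) = u * x0 m n a + l a := fun a => by simp only [hl]; ring
  obtain ⟨b, hb⟩ := D.P_sc hp c a
  have h1 : ∀ y : M, (t * p * t⁻¹) • t • y = t • p • y := fun y => by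
    rw [← mul_smul, ← mul_smul]
    congr 1
    group
  unfold dl kk
  rw [← D.t_lin c a, h1, h1, hx, hx, hx, hx, hb, l_add, l_R, l_sc, l_sc, D.x0_add, D.x0_sc, D.x0_sc, D.x0_v]
  ring

omit [Fintype (↥P ⧸ S.subgroupOf P)] in
theorem tP_mem {p : Γ} (hp : p ∈ P) : t * p * t⁻¹ ∈ P := (Subgroup.mem_normalizer_iff.1 D.t_P p).1 hp

/-- conjugation with `t` on the cosets -/
noncomputable def tq (q : ↥P ⧸ S.subgroupOf P) : ↥P ⧸ S.subgroupOf P :=
  ((⟨t * q.out * t⁻¹, D.tP_mem q.out.2⟩ : ↥P) : ↥P ⧸ S.subgroupOf P)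

omit [Fintype (↥P ⧸ S.subgroupOf P)] in
theorem tq_inj : Function.Injective D.tq := by
  intro q q' h
  unfold tq at h
  rw [QuotientGroup.eq, Subgroup.mem_subgroupOf] at h
  have h1 : (((⟨t * q.out * t⁻¹, D.tP_mem q.out.2⟩ : ↥P)⁻¹ * ⟨t * q'.out * t⁻¹, D.tP_mem q'.out.2⟩ : ↥P) : Γ) =
      t * ((q.out : Γ)⁻¹ * (q'.out : Γ)) * t⁻¹ := by
    push_cast
    group
  rw [h1] at h
  have h2 := (Subgroup.mem_normalizer_iff.1 D.t_S _).2 h
  rw [← QuotientGroup.out_eq' q, ← QuotientGroup.out_eq' q', QuotientGroup.eq, Subgroup.mem_subgroupOf]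
  exact h2

theorem DD_t [CharP F 2] (c : F) {u : F} (hu : ∀ b, t • v b 0 = v (u * b) 0) (a : M) :
    D.DD c (t • a) = u * D.DD c a := by
  have hb : Function.Bijective D.tq := Finite.injective_iff_bijective.1 D.tq_inj
  have h1 : D.DD c (t • a) = ∑ q : ↥P ⧸ S.subgroupOf P, D.dl c ((D.tq q).out : Γ)⁻¹ (t • a) :=
    (Equiv.sum_comp (Equiv.ofBijective _ hb) (fun q : ↥P ⧸ S.subgroupOf P => D.dl c (q.out : Γ)⁻¹ (t • a))).symm
  rw [h1]
  unfold DD
  rw [Finset.mul_sum]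
  refine Finset.sum_congr rfl fun q _ => ?_
  rw [← D.dl_t c hu (inv_mem q.out.2)]
  unfold tq
  rw [D.dl_out]
  congr 1
  push_cast
  group

theorem DD_zero [CharP F 2] (c : F) (a : M) : D.DD c a = 0 := by
  obtain ⟨u, hu1, hu⟩ := D.t_v
  obtain ⟨b, d, h⟩ := D.t_N a
  have h1 := D.DD_t c hu a
  rw [h, D.DD_add, D.DD_N, add_zero] at h1
  have h2 : (1 - u) * D.DD c a = 0 := by rw [sub_mul, one_mul, ← h1, sub_self]
  exact (mul_eq_zero.1 h2).resolve_left (sub_ne_zero.2 (Ne.symm hu1))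

theorem P_le_aux [CharP F 2] : P ≤ D.LinS := by
  intro p hp c a
  have h0 : D.dl c p a = 0 := by
    have := D.DD_smul c hp a
    rw [D.DD_zero, D.DD_zero, zero_sub, zero_eq_neg] at this
    exact this
  obtain ⟨A, hA⟩ := D.P_lin p hp
  apply D.crd_inj
  · unfold dl kk at h0
    rw [D.x0_sc] at h0 ⊢
    linear_combination h0
  · rw [hA, D.m_sc, D.m_sc, hA, map_smul]

end sum

theorem P_le_LinS [Finite Γ] [CharP F 2] : P ≤ D.LinS := by
  have := Fintype.ofFinite (↥P ⧸ S.subgroupOf P)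
  exact D.P_le_aux

theorem sup_le_LinS [Finite Γ] [CharP F 2] : (O ⊔ cn n O) ⊔ P ≤ D.LinS := sup_le D.X_le_LinS D.P_le_LinS

/-! ### Matrices -/

theorem exists_matrix {g : Γ} (hg : g ∈ D.LinS) :
    ∃ A : Matrix (Fin 3) (Fin 3) F, ∀ a, D.crd (g • a) = A.mulVec (D.crd a) := by
  let f : (Fin 3 → F) →ₗ[F] (Fin 3 → F) :=
    { toFun := fun x => D.crd (g • D.crd.symm x)
      map_add' := fun x y => by rw [map_add, smul_add, map_add]
      map_smul' := fun c x => by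
        have h1 : D.crd.symm (c • x) = D.sc c (D.crd.symm x) := by
          unfold sc
          rw [AddEquiv.apply_symm_apply]
        rw [h1, hg, D.crd_sc]
        rfl }
  refine ⟨LinearMap.toMatrix' f, fun a => ?_⟩
  rw [← Matrix.toLin'_apply, Matrix.toLin'_toMatrix']
  show D.crd (g • a) = D.crd (g • D.crd.symm (D.crd a))
  rw [AddEquiv.symm_apply_apply]

end Dat

end Cfsg.Agent.Omega.HSplit.LinA
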