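import Cfsg.Agent.Omega.HSplit.LinAOut
import Cfsg.Agent.ParSys.ResA

/-!
# The residue of type `(α)`: which matrices are induced by `X`, `U`, `⟨X, E⟩`
-/

set_option autoImplicit false
set_option linter.unusedSectionVars false

namespace Cfsg.Agent.Omega.HSplit.LinA

open Subgroup Cfsg.Agent.Lib Cfsg.Agent.Lib.SL2Mat Matrix Cfsg.Agent.ParSys

variable {F : Type*} [Field F] {G : Type*} [Group G] {Sg : Subgroup G}

/-- `SL₂ → SL₃` -/
def emb (A : SpecialLinearGroup (Fin 2) F) : SpecialLinearGroup (Fin 3) F :=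
  ⟨!![ent A 0 0, ent A 0 1, 0; ent A 1 0, ent A 1 1, 0; 0, 0, 1], by
    have h := SL2Mat.det_eq A
    rw [Matrix.det_fin_three]
    simp
    linear_combination h⟩

theorem emb_val (A : SpecialLinearGroup (Fin 2) F) :
    (emb A).1 = !![ent A 0 0, ent A 0 1, 0; ent A 1 0, ent A 1 1, 0; 0, 0, 1] := rfl

theorem emb_mul (A B : SpecialLinearGroup (Fin 2) F) : emb (A * B) = emb A * emb B := by
  apply Subtype.ext
  rw [sl_mul, emb_val, emb_val, emb_val, ent_mul, ent_mul, ent_mul, ent_mul]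
  ext i j
  rw [Matrix.mul_apply, Fin.sum_univ_three]
  fin_cases i <;> fin_cases j <;> simp

theorem emb_one : emb (1 : SpecialLinearGroup (Fin 2) F) = 1 := by
  apply Subtype.ext
  rw [emb_val]
  ext i j
  fin_cases i <;> fin_cases j <;> simp

theorem emb_inv (A : SpecialLinearGroup (Fin 2) F) : emb A⁻¹ = (emb A)⁻¹ := by
  rw [eq_inv_iff_mul_eq_one, ← emb_mul, inv_mul_cancel, emb_one]

theorem emb_up (c : F) : emb (up c) = um c 0 0 := by
  apply Subtype.ext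
  rw [emb_val, um_val, up_00, up_01, up_10, up_11]

namespace In

variable {v : F → F → G} {m : G → F × F} {W O Pd E U : Subgroup G} {n t : G} (D : In Sg v m W O Pd E U n t)
include D

/-- `x` acts on `Sg` as the matrix `A` -/
def Acts (x : G) (A : SpecialLinearGroup (Fin 3) F) : Prop :=
  ∃ h : x ∈ normalizer (Sg : Set G), ∀ a : Md Sg D.comm,
    D.dat.crd ((⟨x, h⟩ : ↥(normalizer (Sg : Set G))) • a) = A.1.mulVec (D.dat.crd a)

variable {D} in
theorem Acts.mul {x y : G} {A B : SpecialLinearGroup (Fin 3) F} (hx : D.Acts x A) (hy : D.Acts y B) :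
    D.Acts (x * y) (A * B) := by
  obtain ⟨h1, h2⟩ := hx
  obtain ⟨h3, h4⟩ := hy
  refine ⟨mul_mem h1 h3, fun a => ?_⟩
  have e : (⟨x * y, mul_mem h1 h3⟩ : ↥(normalizer (Sg : Set G))) = ⟨x, h1⟩ * ⟨y, h3⟩ := rfl
  rw [e, mul_smul, h2, h4, mulVec_mulVec]
  rfl

variable {D} in
theorem Acts.inv {x : G} {A : SpecialLinearGroup (Fin 3) F} (hx : D.Acts x A) : D.Acts x⁻¹ A⁻¹ := by
  obtain ⟨h1, h2⟩ := hx
  refine ⟨inv_mem h1, fun a => ?_⟩
  have e : (⟨x⁻¹, inv_mem h1⟩ : ↥(normalizer (Sg : Set G))) = (⟨x, h1⟩)⁻¹ := rfl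
  have h3 := h2 ((⟨x, h1⟩ : ↥(normalizer (Sg : Set G)))⁻¹ • a)
  rw [smul_inv_smul] at h3
  rw [e, h3, mulVec_mulVec]
  have h4 : (A⁻¹).1 * A.1 = 1 := by
    have : (A⁻¹ * A).1 = 1 := by rw [inv_mul_cancel]; rfl
    exact this
  rw [h4, one_mulVec]

variable {D} in
theorem Acts.commutator {x y : G} {A B : SpecialLinearGroup (Fin 3) F} (hx : D.Acts x A) (hy : D.Acts y B) :
    D.Acts (x * y * x⁻¹ * y⁻¹) (A * B * A⁻¹ * B⁻¹) :=
  ((hx.mul hy).mul hx.inv).mul hy.inv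

variable {D} in
theorem Acts.cong {x : G} {A B : SpecialLinearGroup (Fin 3) F} (hx : D.Acts x A) (h : A = B) : D.Acts x B := h ▸ hx

variable {D} in
/-- two elements with the same action -/
theorem Acts.cent {x y : G} {A : SpecialLinearGroup (Fin 3) F} (hx : D.Acts x A) (hy : D.Acts y A) {a : G}
    (ha : a ∈ Sg) : (x⁻¹ * y) * a * (x⁻¹ * y)⁻¹ = a := by
  obtain ⟨h1, h2⟩ := hx.inv.mul hy
  have h3 := h2 (Md.of D.comm a ha)
  have h4 : (A⁻¹ * A).1 = 1 := by rw [inv_mul_cancel]; rfl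
  rw [h4, one_mulVec] at h3
  exact congrArg Md.val (D.dat.crd.injective h3)

theorem acts_W (l k : F) : ∃ w ∈ W, D.Acts w (um l 0 k) := by
  obtain ⟨w, hw, h⟩ := D.dat.exists_O (fun x hx => mem_subgroupOf.2 (D.E_le (mem_subgroupOf.1 hx))) D.full l k
  refine ⟨w, mem_subgroupOf.1 hw, w.2, fun a => ?_⟩
  have e : (⟨(w : G), w.2⟩ : ↥(normalizer (Sg : Set G))) = w := rfl
  rw [e, h, D.dat.crd_add_v, um_val]
  ext i
  fin_cases i <;> simp [mulVec, dotProduct, Fin.sum_univ_three, D.dat.crd_one, D.dat.crd_two] <;> ring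

theorem acts_W_of {w : G} (hw : w ∈ O) : ∃ l k, D.Acts w (um l 0 k) := by
  obtain ⟨l, k, h⟩ := D.dat.O_fun (w := ⟨w, D.O_Sg hw⟩) (mem_subgroupOf.2 hw)
  refine ⟨l, k, D.O_Sg hw, fun a => ?_⟩
  rw [h, D.dat.crd_add_v, um_val]
  ext i
  fin_cases i <;> simp [mulVec, dotProduct, Fin.sum_univ_three, D.dat.crd_one, D.dat.crd_two] <;> ring

/-- the matrices induced by `W^n` -/
def lm (l k : F) : SpecialLinearGroup (Fin 3) F :=
  ⟨!![1, 0, 0; l, 1, k; 0, 0, 1], by rw [Matrix.det_fin_three]; simp⟩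

omit D in
theorem lm_val (l k : F) : (lm l k).1 = !![1, 0, 0; l, 1, k; 0, 0, 1] := rfl

omit D in
theorem emb_lo (c : F) : emb (lo c) = lm c 0 := by
  apply Subtype.ext
  rw [emb_val, lm_val, lo_00, lo_01, lo_10, lo_11]

omit D in
theorem um_b (k : F) : um 0 k 0 = lm 0 k := by
  apply Subtype.ext
  rw [um_val, lm_val]

theorem acts_cn (l k : F) : ∃ w ∈ cn n W, D.Acts w (lm l k) := by
  obtain ⟨w, hw, h⟩ := D.dat.exists_cn (fun x hx => mem_subgroupOf.2 (D.E_le (mem_subgroupOf.1 hx))) D.full l k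
  obtain ⟨w0, hw0, rfl⟩ := hw
  refine ⟨_, ⟨w0, mem_subgroupOf.1 hw0, rfl⟩, (((MulAut.conj D.n').toMonoidHom w0) : ↥(normalizer (Sg : Set G))).2,
    fun a => ?_⟩
  have h1 := h a
  have e : D.dat.crd ((((MulAut.conj D.n').toMonoidHom w0) : ↥(normalizer (Sg : Set G))) • a) =
      (lm l k).1.mulVec (D.dat.crd a) := by
    rw [h1, D.dat.crd_add_v, lm_val]
    ext i
    fin_cases i <;> simp [mulVec, dotProduct, Fin.sum_univ_three, D.dat.crd_zero, D.dat.crd_one, D.dat.crd_two] <;> ring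
  exact e

variable [Finite G] [CharP F 2]

theorem acts_SL (A : SpecialLinearGroup (Fin 3) F) : ∃ x ∈ (W ⊔ cn n W) ⊔ E, D.Acts x A := by
  obtain ⟨x, hx, h⟩ := D.dat.exists_of_SL (fun x hx => mem_subgroupOf.2 (D.E_le (mem_subgroupOf.1 hx))) D.full A
  refine ⟨x, ?_, x.2, h⟩
  have h1 : W.subgroupOf (normalizer (Sg : Set G)) ⊔ cn D.n' (W.subgroupOf (normalizer (Sg : Set G))) ⊔
      E.subgroupOf (normalizer (Sg : Set G)) ≤ ((W ⊔ cn n W) ⊔ E).subgroupOf (normalizer (Sg : Set G)) := by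
    refine sup_le (fun y hy => ?_) (fun y hy => ?_)
    · exact mem_subgroupOf.2 (mem_sup_left ((D.mem_X D.W_Sg).1 hy))
    · exact mem_subgroupOf.2 (mem_sup_right (mem_subgroupOf.1 hy))
  exact mem_subgroupOf.1 (h1 hx)

/-- an element of `X ∩ U` with a given action on `Sg / R₁` -/
theorem acts_root (c : F) : ∃ x ∈ W ⊔ cn n W, x ∈ U ∧ ∃ a b, D.Acts x (um a c b) := by
  obtain ⟨s, hs, h⟩ := D.U_full c
  obtain ⟨x, hx, hxU, hxO⟩ := D.U_X s hs
  refine ⟨x, hx, hxU, ?_⟩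
  have hxP : x ∈ Pd := D.U_le hxU
  have hxN : x ∈ normalizer (Sg : Set G) := D.P_Sg hxP
  have hlin : (⟨x, hxN⟩ : ↥(normalizer (Sg : Set G))) ∈ D.dat.LinS := D.dat.P_le_LinS (mem_subgroupOf.2 hxP)
  obtain ⟨A, hA⟩ := D.dat.exists_matrix hlin
  -- the action modulo `R₁`
  have hm : ∀ a : Md Sg D.comm, D.m' ((⟨x, hxN⟩ : ↥(normalizer (Sg : Set G))) • a) =
      D.m' a + (c * (D.m' a).2, 0) := by
    intro a
    obtain ⟨b, hb⟩ := D.O_act _ (inv_mem hxO) _ a.val_mem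
    -- `x a x⁻¹ = s (o⁻¹ a o) s⁻¹`
    have e1 : x * a.val * x⁻¹ = s * (a.val * v b 0) * s⁻¹ := by
      rw [← hb]; group
    show m (x * a.val * x⁻¹) = m a.val + (c * (m a.val).2, 0)
    rw [e1, h _ (mul_mem a.val_mem (D.v_mem b 0)), D.m_mul _ a.val_mem _ (D.v_mem b 0), D.m_v]
    ext <;> simp
  have h0 := hA (D.v' 1 0)
  have hv : (⟨x, hxN⟩ : ↥(normalizer (Sg : Set G))) • D.v' 1 0 = D.v' 1 0 := Md.ext (D.P_R x hxP 1)
  rw [hv, D.dat.crd_v] at h0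
  have h00 := congrFun h0 0
  have h01 := congrFun h0 1
  have h02 := congrFun h0 2
  simp [mulVec, dotProduct, Fin.sum_univ_three] at h00 h01 h02
  -- the rows
  have h1 : ∀ y : Fin 3 → F, A.mulVec y 1 = y 1 + c * y 2 ∧ A.mulVec y 2 = y 2 := by
    intro y
    obtain ⟨a, rfl⟩ := D.dat.crd.surjective y
    have h2 := hm a
    rw [← hA]
    exact ⟨congrArg Prod.fst h2, (congrArg Prod.snd h2).trans (add_zero _)⟩
  have e1 := h1 (Pi.single 1 1)
  have e2 := h1 (Pi.single 2 1)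
  rw [mulVec_single_one] at e1 e2
  have e11 : A 1 1 = 1 := by simpa [Matrix.col_apply] using e1.1
  have e21 : A 2 1 = 0 := by simpa [Matrix.col_apply] using e1.2
  have e12 : A 1 2 = c := by simpa [Matrix.col_apply] using e2.1
  have e22 : A 2 2 = 1 := by simpa [Matrix.col_apply] using e2.2
  have eA : A = (um (A 0 1) c (A 0 2)).1 := by
    rw [um_val]
    ext i j
    fin_cases i <;> fin_cases j <;> simp [← h00, ← h01, ← h02, e11, e21, e12, e22]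
  refine ⟨A 0 1, A 0 2, hxN, fun a => ?_⟩
  rw [hA, ← eA]

/-- **`X ∩ U` induces the unitriangular group** -/
theorem acts_um (a b c : F) : ∃ x ∈ W ⊔ cn n W, x ∈ U ∧ D.Acts x (um a b c) := by
  obtain ⟨x, hx, hxU, a', c', h⟩ := D.acts_root b
  obtain ⟨w, hw, h'⟩ := D.acts_W (a - a') (c - c' - (a - a') * b)
  refine ⟨w * x, mul_mem (mem_sup_left hw) hx, mul_mem (D.O_le (D.W_le hw)) hxU, ?_⟩
  refine (h'.mul h).cong ?_
  rw [um_mul]
  congr 1 <;> ring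

/-- `X` induces `SL₂(F)` on `N` -/
theorem acts_emb (A : SpecialLinearGroup (Fin 2) F) : ∃ x ∈ W ⊔ cn n W, D.Acts x (emb A) := by
  have hup : ∀ c, ∃ x ∈ W ⊔ cn n W, D.Acts x (emb (up c)) := fun c => by
    obtain ⟨w, hw, h⟩ := D.acts_W c 0
    exact ⟨w, mem_sup_left hw, h.cong (emb_up c).symm⟩
  have hlo : ∀ c, ∃ x ∈ W ⊔ cn n W, D.Acts x (emb (lo c)) := fun c => by
    obtain ⟨w, hw, h⟩ := D.acts_cn c 0
    exact ⟨w, mem_sup_right hw, h.cong (emb_lo c).symm⟩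
  obtain ⟨a, b, c, d, rfl⟩ := exists_up_lo A
  obtain ⟨x1, hx1, h1⟩ := hup a
  obtain ⟨x2, hx2, h2⟩ := hlo b
  obtain ⟨x3, hx3, h3⟩ := hup c
  obtain ⟨x4, hx4, h4⟩ := hlo d
  refine ⟨x1 * x2 * x3 * x4, mul_mem (mul_mem (mul_mem hx1 hx2) hx3) hx4, ?_⟩
  refine (((h1.mul h2).mul h3).mul h4).cong ?_
  rw [← emb_mul, ← emb_mul, ← emb_mul]

/-- `[X, X]` induces everything that `W` induces -/
theorem acts_comm (hF : ∃ b : F, b ≠ 0 ∧ b ^ 2 ≠ 1) (l k : F) :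
    ∃ x ∈ ⁅W ⊔ cn n W, W ⊔ cn n W⁆, D.Acts x (um l 0 k) := by
  obtain ⟨b, hb, hb1⟩ := hF
  obtain ⟨x1, hx1, h1⟩ := D.acts_emb (dg b hb)
  obtain ⟨x2, hx2, h2⟩ := D.acts_emb (up (l / (b ^ 2 - 1)))
  obtain ⟨x3, hx3, h3⟩ := D.acts_W 1 0
  obtain ⟨x4, hx4, h4⟩ := D.acts_cn 0 k
  refine ⟨(x1 * x2 * x1⁻¹ * x2⁻¹) * (x3 * x4 * x3⁻¹ * x4⁻¹), mul_mem ?_ ?_, ?_⟩
  · exact commutator_mem_commutator hx1 hx2
  · exact commutator_mem_commutator (mem_sup_left hx3) (mem_sup_right hx4)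
  · refine ((h1.commutator h2).mul (h3.commutator h4)).cong ?_
    have e1 : emb (dg b hb) * emb (up (l / (b ^ 2 - 1))) * (emb (dg b hb))⁻¹ * (emb (up (l / (b ^ 2 - 1))))⁻¹ =
        um l 0 0 := by
      rw [← emb_inv, ← emb_inv, ← emb_mul, ← emb_mul, ← emb_mul, dg_up, up_inv, mul_inv_cancel_right, up_mul,
        emb_up]
      congr 1
      have : b ^ 2 - 1 ≠ 0 := sub_ne_zero.2 hb1
      field_simp
      ring
    have e2 : um 1 0 0 * lm 0 k * (um 1 0 0)⁻¹ * (lm 0 k)⁻¹ = um 0 0 k := by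
      rw [← um_b, mul_inv_eq_iff_eq_mul, mul_inv_eq_iff_eq_mul, um_mul, um_mul, um_mul]
      congr 1 <;> ring
    rw [e1, e2, um_mul]
    congr 1 <;> ring

end In

end Cfsg.Agent.Omega.HSplit.LinA
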