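import Cfsg.Agent.Omega.HSplit.LinARho

/-!
# The residue of type `(α)` for subgroups of `G`: the representation on `Σ ≤ G`, `|Σ| = q³`

`In Sg v m W O Pd U n t`: the data for subgroups of `G`, acting on the abelian subgroup `Sg` by conjugation.
`X = W ⊔ W^n`.  `In.dat`, `In.full`: the data of `LinA`, `LinARho` for the group `N(Sg)` and the module `Sg`.
-/

set_option autoImplicit false
set_option linter.unusedSectionVars false

namespace Cfsg.Agent.Omega.HSplit.LinA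

open Subgroup Cfsg.Agent.Lib Cfsg.Agent.Lib.SL2Mat Matrix

variable {F : Type*} [Field F] {G : Type*} [Group G]

/-! ### The module -/

/-- the abelian group `Sg`, written additively -/
def Md (Sg : Subgroup G) (_ : ∀ a ∈ Sg, ∀ b ∈ Sg, a * b = b * a) : Type _ := Additive ↥Sg

variable {Sg : Subgroup G} {hc : ∀ a ∈ Sg, ∀ b ∈ Sg, a * b = b * a}

namespace Md

/-- an element of `Sg` as an element of the module -/
def of (hc : ∀ a ∈ Sg, ∀ b ∈ Sg, a * b = b * a) (a : G) (ha : a ∈ Sg) : Md Sg hc := Additive.ofMul ⟨a, ha⟩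

/-- the underlying element -/
def val (x : Md Sg hc) : G := ((Additive.toMul x : ↥Sg) : G)

theorem val_mem (x : Md Sg hc) : x.val ∈ Sg := (Additive.toMul x : ↥Sg).2

theorem val_of (a : G) (ha : a ∈ Sg) : (of hc a ha).val = a := rfl

theorem ext {x y : Md Sg hc} (h : x.val = y.val) : x = y :=
  Additive.toMul.injective (Subtype.ext h)

instance : AddCommGroup (Md Sg hc) :=
  { (inferInstance : AddGroup (Additive ↥Sg)) with
    add_comm := fun x y => by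
      apply Additive.toMul.injective
      apply Subtype.ext
      exact hc _ (Additive.toMul x : ↥Sg).2 _ (Additive.toMul y : ↥Sg).2 }

theorem val_add (x y : Md Sg hc) : (x + y).val = x.val * y.val := rfl

theorem val_zero : (0 : Md Sg hc).val = 1 := rfl

theorem conj_mem {g : G} (hg : g ∈ normalizer (Sg : Set G)) {a : G} (ha : a ∈ Sg) : g * a * g⁻¹ ∈ Sg :=
  (mem_normalizer_iff.1 hg a).1 ha

instance : DistribMulAction ↥(normalizer (Sg : Set G)) (Md Sg hc) where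
  smul g x := of hc ((g : G) * x.val * (g : G)⁻¹) (conj_mem g.2 x.val_mem)
  one_smul x := ext (by
    show (1 : G) * x.val * (1 : G)⁻¹ = x.val
    rw [one_mul, inv_one, mul_one])
  mul_smul g h x := ext (by
    show ((g : G) * (h : G)) * x.val * ((g : G) * (h : G))⁻¹ = (g : G) * ((h : G) * x.val * (h : G)⁻¹) * (g : G)⁻¹
    group)
  smul_zero g := ext (by
    show (g : G) * 1 * (g : G)⁻¹ = 1
    rw [mul_one, mul_inv_cancel])
  smul_add g x y := ext (by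
    show (g : G) * (x.val * y.val) * (g : G)⁻¹ = ((g : G) * x.val * (g : G)⁻¹) * ((g : G) * y.val * (g : G)⁻¹)
    group)

theorem val_smul (g : ↥(normalizer (Sg : Set G))) (x : Md Sg hc) : (g • x).val = (g : G) * x.val * (g : G)⁻¹ := rfl

end Md

/-! ### The data in `G` -/

/-- The data of a residue of type `(α)` in a group `G`. -/
structure In (Sg : Subgroup G) (v : F → F → G) (m : G → F × F) (W O Pd E U : Subgroup G) (n t : G) : Prop where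
  comm : ∀ a ∈ Sg, ∀ b ∈ Sg, a * b = b * a
  v_mem : ∀ b c, v b c ∈ Sg
  v_add : ∀ b c b' c', v (b + b') (c + c') = v b c * v b' c'
  v_inj : ∀ b, v b 0 = 1 → b = 0
  m_mul : ∀ a ∈ Sg, ∀ b ∈ Sg, m (a * b) = m a + m b
  m_surj : ∀ x, ∃ a ∈ Sg, m a = x
  m_ker : ∀ a ∈ Sg, m a = 0 → ∃ b, a = v b 0
  m_v : ∀ b c, m (v b c) = (c, 0)
  /-- `W` (`= W₁`) is normalised by `Pd` and induces the full root group on `N = {v b c}` -/
  W_le : W ≤ O
  W_full : ∀ l : F, ∃ w ∈ W, ∀ c, w * v 0 c * w⁻¹ = v (l * c) c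
  P_W : ∀ p ∈ Pd, ∀ w ∈ W, p⁻¹ * w * p ∈ W
  /-- `O` (`= O₂(Pd)`) acts trivially on `R₁` and on `Sg / R₁`, and `F`-linearly on `N` -/
  O_le : O ≤ U
  O_act : ∀ w ∈ O, ∀ a ∈ Sg, ∃ b, w * a * w⁻¹ = a * v b 0
  O_N : ∀ w ∈ O, ∃ l : F, ∀ c, w * v 0 c * w⁻¹ = v (l * c) c
  P_O : ∀ p ∈ Pd, ∀ w ∈ O, p⁻¹ * w * p ∈ O
  /-- `Pd` centralises `R₁` and acts `F`-linearly on `Sg / R₁` -/
  P_Sg : Pd ≤ normalizer (Sg : Set G)
  P_R : ∀ p ∈ Pd, ∀ b, p * v b 0 * p⁻¹ = v b 0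
  P_lin : ∀ p ∈ Pd, ∃ A : (F × F) →ₗ[F] (F × F), ∀ a ∈ Sg, m (p * a * p⁻¹) = A (m a)
  /-- `E ≤ Pd` moves `N` -/
  E_le : E ≤ Pd
  E_mv : ∃ p ∈ E, ∃ c, (m (p * v 0 c * p⁻¹)).2 ≠ 0
  /-- `n ∈ X` swaps `R₁` and `R₂` and centralises `Sg / N` -/
  n_mem : n ∈ W ⊔ cn n W
  n_v : ∀ b c, n * v b c * n⁻¹ = v c b
  n_N : ∀ a ∈ Sg, ∃ b c, n * a * n⁻¹ = a * v b c
  /-- `U` is a Sylow subgroup of `Pd`, covered by `X ∩ U` modulo `O` -/
  isP : IsPGroup 2 U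
  U_E : U ≤ E
  U_odd : ¬ 2 ∣ U.relIndex Pd
  U_X : ∀ u ∈ U, ∃ x ∈ W ⊔ cn n W, x ∈ U ∧ x⁻¹ * u ∈ O
  U_full : ∀ c : F, ∃ s ∈ U, ∀ a ∈ Sg, m (s * a * s⁻¹) = m a + (c * (m a).2, 0)
  /-- a torus element -/
  t_mem : t ∈ W ⊔ cn n W
  t_v : ∃ u : F, u ≠ 1 ∧ ∀ b, t * v b 0 * t⁻¹ = v (u * b) 0
  t_P : t ∈ normalizer (Pd : Set G)
  t_U : t ∈ normalizer (U : Set G)

theorem cn_map {G H : Type*} [Group G] [Group H] (f : G →* H) (n : G) (O : Subgroup G) :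
    (cn n O).map f = cn (f n) (O.map f) := by
  unfold cn
  rw [Subgroup.map_map, Subgroup.map_map]
  congr 1
  ext x
  simp

namespace In

variable {v : F → F → G} {m : G → F × F} {W O Pd E U : Subgroup G} {n t : G} (D : In Sg v m W O Pd E U n t)
include D

theorem U_le : U ≤ Pd := D.U_E.trans D.E_le

theorem E_Sg : E ≤ normalizer (Sg : Set G) := D.E_le.trans D.P_Sg

theorem O_Sg : O ≤ normalizer (Sg : Set G) := D.O_le.trans (D.U_le.trans D.P_Sg)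

theorem W_Sg : W ≤ normalizer (Sg : Set G) := D.W_le.trans D.O_Sg

theorem v_zero : v 0 0 = 1 := by
  have h := D.v_add 0 0 0 0
  rw [add_zero] at h
  exact left_eq_mul.1 h

theorem n_Sg : n ∈ normalizer (Sg : Set G) := by
  have h1 : ∀ a ∈ Sg, n * a * n⁻¹ ∈ Sg := fun a ha => by
    obtain ⟨b, c, h⟩ := D.n_N a ha
    rw [h]
    exact mul_mem ha (D.v_mem b c)
  rw [mem_normalizer_iff]
  intro a
  refine ⟨h1 a, fun ha => ?_⟩
  obtain ⟨b, c, h⟩ := D.n_N _ ha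
  have h2 : n * (n * a * n⁻¹ * v (-c) (-b)) * n⁻¹ = n * a * n⁻¹ := by
    calc n * (n * a * n⁻¹ * v (-c) (-b)) * n⁻¹ = n * (n * a * n⁻¹) * n⁻¹ * (n * v (-c) (-b) * n⁻¹) := by group
      _ = n * a * n⁻¹ := by
        rw [h, D.n_v, mul_assoc, ← D.v_add, add_neg_cancel, add_neg_cancel, D.v_zero, mul_one]
  have h3 : a = n * a * n⁻¹ * v (-c) (-b) := by
    have h4 : n * (n * a * n⁻¹ * v (-c) (-b)) = n * a := mul_right_cancel h2
    exact (mul_left_cancel h4).symm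
  rw [h3]
  exact mul_mem ha (D.v_mem _ _)

theorem X_Sg : W ⊔ cn n W ≤ normalizer (Sg : Set G) := by
  refine sup_le D.W_Sg ?_
  rintro _ ⟨w, hw, rfl⟩
  exact mul_mem (mul_mem D.n_Sg (D.W_Sg hw)) (inv_mem D.n_Sg)

theorem t_Sg : t ∈ normalizer (Sg : Set G) := D.X_Sg D.t_mem

/-- `n` as an element of `N(Sg)` -/
def n' : ↥(normalizer (Sg : Set G)) := ⟨n, D.n_Sg⟩

/-- `t` as an element of `N(Sg)` -/
def t' : ↥(normalizer (Sg : Set G)) := ⟨t, D.t_Sg⟩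

/-- the coordinates -/
def v' (b c : F) : Md Sg D.comm := Md.of D.comm (v b c) (D.v_mem b c)

/-- the coordinates modulo `R₁` -/
def m' (x : Md Sg D.comm) : F × F := m x.val

theorem mem_X {L : Subgroup G} (hL : L ≤ normalizer (Sg : Set G)) {x : ↥(normalizer (Sg : Set G))} :
    x ∈ L.subgroupOf (normalizer (Sg : Set G)) ⊔ cn D.n' (L.subgroupOf (normalizer (Sg : Set G))) ↔
      (x : G) ∈ L ⊔ cn n L := by
  have h1 : (L.subgroupOf (normalizer (Sg : Set G)) ⊔ cn D.n' (L.subgroupOf (normalizer (Sg : Set G)))).map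
      (normalizer (Sg : Set G)).subtype = L ⊔ cn n L := by
    rw [Subgroup.map_sup, cn_map, subgroupOf_map_subtype, inf_of_le_left hL]
    rfl
  constructor
  · intro hx
    rw [← h1]
    exact ⟨x, hx, rfl⟩
  · intro hx
    rw [← h1] at hx
    obtain ⟨y, hy, hyx⟩ := hx
    have : y = x := Subtype.ext hyx
    rwa [← this]

/-- `X` acts trivially on `Sg / N` -/
theorem X_act {x : G} (hx : x ∈ W ⊔ cn n W) {a : G} (ha : a ∈ Sg) : ∃ b c, x * a * x⁻¹ = a * v b c := by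
  let T : Subgroup G :=
    { carrier := {g | (∀ a ∈ Sg, ∃ b c, g * a * g⁻¹ = a * v b c) ∧ (∀ a ∈ Sg, ∃ b c, g⁻¹ * a * g⁻¹⁻¹ = a * v b c)}
      one_mem' := ⟨fun a _ => ⟨0, 0, by rw [D.v_zero]; group⟩, fun a _ => ⟨0, 0, by rw [D.v_zero]; group⟩⟩
      mul_mem' := by
        have aux : ∀ {g h : G}, (∀ a ∈ Sg, ∃ b c, g * a * g⁻¹ = a * v b c) →
            (∀ a ∈ Sg, ∃ b c, h * a * h⁻¹ = a * v b c) → ∀ a ∈ Sg, ∃ b c, (g * h) * a * (g * h)⁻¹ = a * v b c := by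
          intro g h hg hh a ha
          obtain ⟨b, c, h1⟩ := hh a ha
          obtain ⟨b', c', h2⟩ := hg (h * a * h⁻¹) (by rw [h1]; exact mul_mem ha (D.v_mem b c))
          refine ⟨b + b', c + c', ?_⟩
          have e : g * h * a * (g * h)⁻¹ = g * (h * a * h⁻¹) * g⁻¹ := by group
          rw [e, h2, h1, D.v_add, mul_assoc]
        rintro g h ⟨hg, hg'⟩ ⟨hh, hh'⟩
        refine ⟨aux hg hh, ?_⟩
        rw [_root_.mul_inv_rev]
        exact aux hh' hg'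
      inv_mem' := by
        rintro g ⟨hg, hg'⟩
        refine ⟨hg', ?_⟩
        rw [inv_inv]
        exact hg }
  have hW : ∀ w ∈ W, ∀ a ∈ Sg, ∃ b c, w * a * w⁻¹ = a * v b c := fun w hw a ha => by
    obtain ⟨b, hb⟩ := D.O_act w (D.W_le hw) a ha
    exact ⟨b, 0, hb⟩
  have hn : ∀ w ∈ W, ∀ a ∈ Sg, ∃ b c, (n * w * n⁻¹) * a * (n * w * n⁻¹)⁻¹ = a * v b c := fun w hw a ha => by
    have ha' : n⁻¹ * a * n⁻¹⁻¹ ∈ Sg := Md.conj_mem (inv_mem D.n_Sg) ha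
    obtain ⟨b, hb⟩ := D.O_act w (D.W_le hw) _ ha'
    refine ⟨0, b, ?_⟩
    have e : (n * w * n⁻¹) * a * (n * w * n⁻¹)⁻¹ = n * (w * (n⁻¹ * a * n⁻¹⁻¹) * w⁻¹) * n⁻¹ := by group
    rw [e, hb]
    have e2 : n * (n⁻¹ * a * n⁻¹⁻¹ * v b 0) * n⁻¹ = a * (n * v b 0 * n⁻¹) := by group
    rw [e2, D.n_v]
  have h1 : W ⊔ cn n W ≤ T := by
    apply sup_le
    · exact fun w hw => ⟨hW w hw, hW _ (inv_mem hw)⟩
    · rintro _ ⟨w, hw, rfl⟩
      refine ⟨hn w hw, ?_⟩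
      have e : (((MulAut.conj n).toMonoidHom w : G))⁻¹ = n * w⁻¹ * n⁻¹ := by
        show (n * w * n⁻¹)⁻¹ = n * w⁻¹ * n⁻¹
        group
      rw [e]
      exact hn _ (inv_mem hw)
  exact (h1 hx).1 a ha

theorem full : Full D.v' D.m' (W.subgroupOf (normalizer (Sg : Set G))) (O.subgroupOf (normalizer (Sg : Set G)))
    (E.subgroupOf (normalizer (Sg : Set G))) where
  W_le := fun x hx => mem_subgroupOf.2 (D.W_le (mem_subgroupOf.1 hx))
  P_W p hp w hw := mem_subgroupOf.2 (D.P_W p (D.E_le (mem_subgroupOf.1 hp)) w (mem_subgroupOf.1 hw))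
  W_full l := by
    obtain ⟨w, hw, h⟩ := D.W_full l
    exact ⟨⟨w, D.W_Sg hw⟩, mem_subgroupOf.2 hw, fun c => Md.ext (h c)⟩
  P_SL := SL_of (fun a b => D.m_mul _ a.val_mem _ b.val_mem) (fun x => by
      obtain ⟨a, ha, h⟩ := D.m_surj x
      exact ⟨Md.of D.comm a ha, h⟩) (fun p hp => by
      obtain ⟨A, hA⟩ := D.P_lin p (D.E_le (mem_subgroupOf.1 hp))
      exact ⟨A, fun a => hA _ a.val_mem⟩) (fun c => by
      obtain ⟨s, hs, h⟩ := D.U_full c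
      exact ⟨⟨s, D.P_Sg (D.U_le hs)⟩, mem_subgroupOf.2 (D.U_E hs), fun a => h _ a.val_mem⟩) (by
      obtain ⟨p, hp, c, h⟩ := D.E_mv
      refine ⟨⟨p, D.E_Sg hp⟩, mem_subgroupOf.2 hp, Md.of D.comm (v 0 c) (D.v_mem 0 c), ?_, h⟩
      show (m (v 0 c)).2 = 0
      rw [D.m_v])

theorem dat : Dat D.v' D.m' (O.subgroupOf (normalizer (Sg : Set G))) (Pd.subgroupOf (normalizer (Sg : Set G)))
    (U.subgroupOf (normalizer (Sg : Set G))) D.n' D.t' where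
  v_add b c b' c' := Md.ext (D.v_add b c b' c')
  v_inj b h := D.v_inj b (congrArg Md.val h)
  m_add a b := D.m_mul _ a.val_mem _ b.val_mem
  m_surj x := by
    obtain ⟨a, ha, h⟩ := D.m_surj x
    exact ⟨Md.of D.comm a ha, h⟩
  m_ker a h := by
    obtain ⟨b, hb⟩ := D.m_ker _ a.val_mem h
    exact ⟨b, Md.ext hb⟩
  m_v b c := D.m_v b c
  O_act w hw a := by
    obtain ⟨b, hb⟩ := D.O_act w (mem_subgroupOf.1 hw) _ a.val_mem
    exact ⟨b, Md.ext hb⟩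
  O_R w hw b := Md.ext (D.P_R w (D.U_le (D.O_le (mem_subgroupOf.1 hw))) b)
  O_N w hw := by
    obtain ⟨l, hl⟩ := D.O_N w (mem_subgroupOf.1 hw)
    exact ⟨l, fun c => Md.ext (hl c)⟩
  P_R p hp b := Md.ext (D.P_R p (mem_subgroupOf.1 hp) b)
  P_lin p hp := by
    obtain ⟨A, hA⟩ := D.P_lin p (mem_subgroupOf.1 hp)
    exact ⟨A, fun a => hA _ a.val_mem⟩
  P_tr x hx := by
    obtain ⟨p, hp, h⟩ := D.full.tr x hx
    exact ⟨p, mem_subgroupOf.2 (D.E_le (mem_subgroupOf.1 hp)), h⟩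
  P_O p hp w hw := mem_subgroupOf.2 (D.P_O p (mem_subgroupOf.1 hp) w (mem_subgroupOf.1 hw))
  n_v b c := Md.ext (D.n_v b c)
  n_N a := by
    obtain ⟨b, c, h⟩ := D.n_N _ a.val_mem
    exact ⟨b, c, Md.ext h⟩
  S_le := fun x hx => mem_subgroupOf.2 (D.U_le (mem_subgroupOf.1 hx))
  S_O := by
    intro x hx
    obtain ⟨y, hy, hyU, hyx⟩ := D.U_X x (mem_subgroupOf.1 hx)
    rw [D.mem_X D.O_Sg]
    have h1 : W ⊔ cn n W ≤ O ⊔ cn n O := sup_le_sup D.W_le (Subgroup.map_mono D.W_le)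
    have h2 := mul_mem (h1 hy) ((le_sup_left : O ≤ O ⊔ cn n O) hyx)
    rwa [mul_inv_cancel_left] at h2
  S_odd := by
    rw [relIndex_subgroupOf D.P_Sg]
    rw [← Nat.not_even_iff_odd, even_iff_two_dvd]
    exact D.U_odd
  S_full c := by
    obtain ⟨s, hs, h⟩ := D.U_full c
    obtain ⟨a, ha, h1⟩ := D.m_surj (0, 1)
    refine ⟨⟨s, D.P_Sg (D.U_le hs)⟩, mem_subgroupOf.2 hs, Md.of D.comm a ha, ?_⟩
    show m (s * a * s⁻¹) = m a + (c, 0)
    rw [h a ha, h1, mul_one]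
  t_mem := by
    rw [D.mem_X D.O_Sg]
    exact (sup_le_sup D.W_le (Subgroup.map_mono D.W_le)) D.t_mem
  t_v := by
    obtain ⟨u, hu, h⟩ := D.t_v
    exact ⟨u, hu, fun b => Md.ext (h b)⟩
  t_N a := by
    obtain ⟨b, c, h⟩ := D.X_act D.t_mem a.val_mem
    exact ⟨b, c, Md.ext h⟩
  t_P := by
    rw [mem_normalizer_iff]
    exact fun x => mem_normalizer_iff.1 D.t_P x
  t_S := by
    rw [mem_normalizer_iff]
    exact fun x => mem_normalizer_iff.1 D.t_U x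

/-! ### The representation of subgroups of `⟨X, Pd⟩` -/

theorem sup_Sg : (W ⊔ cn n W) ⊔ Pd ≤ normalizer (Sg : Set G) := sup_le D.X_Sg D.P_Sg

theorem mem_lin [Finite G] [CharP F 2] {x : ↥(normalizer (Sg : Set G))} (hx : (x : G) ∈ (W ⊔ cn n W) ⊔ Pd) :
    x ∈ D.dat.LinS := by
  have h1 : x ∈ ((W ⊔ cn n W) ⊔ Pd).subgroupOf (normalizer (Sg : Set G)) := mem_subgroupOf.2 hx
  rw [subgroupOf_sup D.X_Sg D.P_Sg] at h1
  refine (sup_le ?_ D.dat.P_le_LinS) h1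
  intro y hy
  have h2 : W ⊔ cn n W ≤ O ⊔ cn n O := sup_le_sup D.W_le (Subgroup.map_mono D.W_le)
  exact D.dat.X_le_LinS ((D.mem_X D.O_Sg).2 (h2 (mem_subgroupOf.1 hy)))

variable {L : Subgroup G} (hL : L ≤ (W ⊔ cn n W) ⊔ Pd)

/-- the representation -/
noncomputable def rho [Finite G] [CharP F 2] : ↥L →* GL (Fin 3) F :=
  D.dat.rho.comp
    { toFun := fun x => ⟨⟨x, D.sup_Sg (hL x.2)⟩, D.mem_lin (hL x.2)⟩
      map_one' := rfl
      map_mul' := fun _ _ => rfl }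

variable [Finite G] [CharP F 2]

theorem rho_apply (x : ↥L) : D.rho hL x = D.dat.rho ⟨⟨x, D.sup_Sg (hL x.2)⟩, D.mem_lin (hL x.2)⟩ := rfl

/-- the coordinates of an element of `Sg` -/
noncomputable def crd (a : G) (ha : a ∈ Sg) : Fin 3 → F := D.dat.crd (Md.of D.comm a ha)

theorem rho_spec (x : ↥L) (a : G) (ha : a ∈ Sg) :
    D.crd ((x : G) * a * (x : G)⁻¹) (Md.conj_mem (D.sup_Sg (hL x.2)) ha) =
      (D.rho hL x : Matrix (Fin 3) (Fin 3) F).mulVec (D.crd a ha) :=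
  D.dat.rho_spec ⟨⟨x, D.sup_Sg (hL x.2)⟩, D.mem_lin (hL x.2)⟩ (Md.of D.comm a ha)

theorem rho_eq_one (x : ↥L) : D.rho hL x = 1 ↔ ∀ a ∈ Sg, (x : G) * a * (x : G)⁻¹ = a := by
  rw [rho_apply, D.dat.rho_eq_one]
  constructor
  · intro h a ha
    exact congrArg Md.val (h (Md.of D.comm a ha))
  · intro h a
    exact Md.ext (h _ a.val_mem)

theorem col_zero {x : ↥L} (h : ∀ b, ∃ b', (x : G) * v b 0 * (x : G)⁻¹ = v b' 0) :
    (D.rho hL x : Matrix (Fin 3) (Fin 3) F) 1 0 = 0 ∧ (D.rho hL x : Matrix (Fin 3) (Fin 3) F) 2 0 = 0 :=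
  D.dat.col_zero (g := ⟨⟨x, D.sup_Sg (hL x.2)⟩, D.mem_lin (hL x.2)⟩) fun b => by
    obtain ⟨b', hb⟩ := h b
    exact ⟨b', Md.ext hb⟩

theorem of_col_zero {x : ↥L} (h1 : (D.rho hL x : Matrix (Fin 3) (Fin 3) F) 1 0 = 0)
    (h2 : (D.rho hL x : Matrix (Fin 3) (Fin 3) F) 2 0 = 0) (b : F) :
    (x : G) * v b 0 * (x : G)⁻¹ = v ((D.rho hL x : Matrix (Fin 3) (Fin 3) F) 0 0 * b) 0 :=
  congrArg Md.val (D.dat.of_col_zero (g := ⟨⟨x, D.sup_Sg (hL x.2)⟩, D.mem_lin (hL x.2)⟩) h1 h2 b)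

theorem row_two {x : ↥L} (h : ∀ b c, ∃ b' c', (x : G) * v b c * (x : G)⁻¹ = v b' c') :
    (D.rho hL x : Matrix (Fin 3) (Fin 3) F) 2 0 = 0 ∧ (D.rho hL x : Matrix (Fin 3) (Fin 3) F) 2 1 = 0 :=
  D.dat.row_two (g := ⟨⟨x, D.sup_Sg (hL x.2)⟩, D.mem_lin (hL x.2)⟩) fun b c => by
    obtain ⟨b', c', hb⟩ := h b c
    exact ⟨b', c', Md.ext hb⟩

theorem of_row_two {x : ↥L} (h1 : (D.rho hL x : Matrix (Fin 3) (Fin 3) F) 2 0 = 0)
    (h2 : (D.rho hL x : Matrix (Fin 3) (Fin 3) F) 2 1 = 0) (b c : F) :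
    ∃ b' c', (x : G) * v b c * (x : G)⁻¹ = v b' c' := by
  obtain ⟨b', c', h⟩ := D.dat.of_row_two (g := ⟨⟨x, D.sup_Sg (hL x.2)⟩, D.mem_lin (hL x.2)⟩) h1 h2 b c
  exact ⟨b', c', congrArg Md.val h⟩

/-- an element which acts on `Sg` as the matrix `A` -/
theorem rho_eq {x : ↥L} {A : Matrix (Fin 3) (Fin 3) F}
    (h : ∀ a (ha : a ∈ Sg) (ha' : (x : G) * a * (x : G)⁻¹ ∈ Sg), D.crd _ ha' = A.mulVec (D.crd a ha)) :
    (D.rho hL x : Matrix (Fin 3) (Fin 3) F) = A := by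
  refine D.dat.rho_eq (g := ⟨⟨x, D.sup_Sg (hL x.2)⟩, D.mem_lin (hL x.2)⟩) fun a => ?_
  exact h a.val a.val_mem (Md.conj_mem (D.sup_Sg (hL x.2)) a.val_mem)

end In

end Cfsg.Agent.Omega.HSplit.LinA
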