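import Cfsg.Agent.Omega.HSplit.LinA
import Cfsg.Agent.LieClassical.SLGen

/-!
# The residue of type `(α)`: the representation on `Σ = F³` (#14148, 8.2)

`Dat.rho : LinS →* GL₃(F)`; `⟨O, O^n, P⟩ ≤ LinS` (`Dat.sup_le_LinS`).  `Full`: `P` induces `SL₂(F)` on `M / R₁`,
`W ≤ O`, normalised by `P`, induces the full root group on `N`; then `⟨W, W^n, E⟩` induces `SL₃(F)`
(`Dat.exists_of_SL`), `W` induces all matrices `(1 λ μ; 0 1 0; 0 0 1)` (`Dat.exists_O`).
`SL_of`: `P` induces `SL₂(F)` if it contains a full root group and moves its axis.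
-/

set_option autoImplicit false
set_option linter.unusedSectionVars false

namespace Cfsg.Agent.Omega.HSplit.LinA

open Cfsg.Agent.Lib Cfsg.Agent.Lib.SL2Mat Matrix

variable {F : Type*} [Field F] {Γ : Type*} [Group Γ] {M : Type*} [AddCommGroup M] [DistribMulAction Γ M]

/-- the action of `SL₂(F)` on `F × F` -/
def pr (A : SpecialLinearGroup (Fin 2) F) (y : F × F) : F × F :=
  (ent A 0 0 * y.1 + ent A 0 1 * y.2, ent A 1 0 * y.1 + ent A 1 1 * y.2)

/-- `P` induces `SL₂(F)` on `M / R₁` and `W` the full root group on `N`. -/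
structure Full (v : F → F → M) (m : M → F × F) (W O P : Subgroup Γ) : Prop where
  W_le : W ≤ O
  P_W : ∀ p ∈ P, ∀ w ∈ W, p⁻¹ * w * p ∈ W
  W_full : ∀ l : F, ∃ w ∈ W, ∀ c, w • v 0 c = v (l * c) c
  P_SL : ∀ A : SpecialLinearGroup (Fin 2) F, ∃ p ∈ P, ∀ a, m (p • a) = pr A (m a)

theorem pr_mul (A B : SpecialLinearGroup (Fin 2) F) (y : F × F) : pr (A * B) y = pr A (pr B y) := by
  unfold pr
  rw [ent_mul, ent_mul, ent_mul, ent_mul]
  ext
  · show (ent A 0 0 * ent B 0 0 + ent A 0 1 * ent B 1 0) * y.1 + (ent A 0 0 * ent B 0 1 + ent A 0 1 * ent B 1 1) * y.2 =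
      ent A 0 0 * (ent B 0 0 * y.1 + ent B 0 1 * y.2) + ent A 0 1 * (ent B 1 0 * y.1 + ent B 1 1 * y.2)
    ring
  · show (ent A 1 0 * ent B 0 0 + ent A 1 1 * ent B 1 0) * y.1 + (ent A 1 0 * ent B 0 1 + ent A 1 1 * ent B 1 1) * y.2 =
      ent A 1 0 * (ent B 0 0 * y.1 + ent B 0 1 * y.2) + ent A 1 1 * (ent B 1 0 * y.1 + ent B 1 1 * y.2)
    ring

theorem pr_up (c : F) (y : F × F) : pr (up c) y = y + (c * y.2, 0) := by
  unfold pr
  rw [up_00, up_01, up_10, up_11]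
  ext <;> simp

theorem pr_lo (c : F) (y : F × F) : pr (lo c) y = y + (0, c * y.1) := by
  unfold pr
  rw [lo_00, lo_01, lo_10, lo_11]
  ext <;> simp [add_comm]

/-- a linear group on `F²` which contains a full root group and moves its axis contains `SL₂(F)` -/
theorem SL_of {m : M → F × F} (m_add : ∀ a b, m (a + b) = m a + m b) (m_surj : ∀ x, ∃ a, m a = x) {P : Subgroup Γ}
    (hlin : ∀ p ∈ P, ∃ A : (F × F) →ₗ[F] (F × F), ∀ a, m (p • a) = A (m a))
    (hfull : ∀ c : F, ∃ p ∈ P, ∀ a, m (p • a) = m a + (c * (m a).2, 0))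
    (hmv : ∃ p ∈ P, ∃ a, (m a).2 = 0 ∧ (m (p • a)).2 ≠ 0) (A : SpecialLinearGroup (Fin 2) F) :
    ∃ p ∈ P, ∀ a, m (p • a) = pr A (m a) := by
  have hup : ∀ c, ∃ p ∈ P, ∀ a, m (p • a) = pr (up c) (m a) := fun c => by
    obtain ⟨p, hp, h⟩ := hfull c
    exact ⟨p, hp, fun a => by rw [h, pr_up]⟩
  have hmul : ∀ A B : SpecialLinearGroup (Fin 2) F, (∃ p ∈ P, ∀ a, m (p • a) = pr A (m a)) →
      (∃ p ∈ P, ∀ a, m (p • a) = pr B (m a)) → ∃ p ∈ P, ∀ a, m (p • a) = pr (A * B) (m a) := by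
    rintro A B ⟨p, hp, h⟩ ⟨q, hq, h'⟩
    exact ⟨p * q, mul_mem hp hq, fun a => by rw [mul_smul, h, h', pr_mul]⟩
  -- an element `(0 β; γ 0)`
  obtain ⟨w, hw, β, γ, hβ, hγ, hwm⟩ : ∃ w ∈ P, ∃ β γ : F, β ≠ 0 ∧ γ ≠ 0 ∧
      ∀ a, m (w • a) = (β * (m a).2, γ * (m a).1) := by
    obtain ⟨p, hp, a0, h0, h1⟩ := hmv
    obtain ⟨L, hL⟩ := hlin p hp
    set α := (L (1, 0)).1 with hα
    set γ := (L (1, 0)).2 with hγ
    set β := (L (0, 1)).1 with hβ
    set δ := (L (0, 1)).2 with hδ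
    have hLe : ∀ y : F × F, L y = (α * y.1 + β * y.2, γ * y.1 + δ * y.2) := by
      intro y
      have h2 : y = y.1 • ((1, 0) : F × F) + y.2 • ((0, 1) : F × F) := by ext <;> simp
      conv_lhs => rw [h2]
      rw [map_add, map_smul, map_smul]
      ext
      · show y.1 * α + y.2 * β = α * y.1 + β * y.2
        ring
      · show y.1 * γ + y.2 * δ = γ * y.1 + δ * y.2
        ring
    have hγ0 : γ ≠ 0 := by
      intro h2
      apply h1
      rw [hL, hLe, h0, h2]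
      simp
    obtain ⟨q, hq, hq1⟩ := hfull (-(α / γ))
    obtain ⟨r, hr, hr1⟩ := hfull (-(δ / γ))
    have hm : ∀ a, m ((q * p * r) • a) = ((β - α * δ / γ) * (m a).2, γ * (m a).1) := by
      intro a
      rw [mul_smul, mul_smul, hq1, hL, hLe, hr1]
      ext
      · show α * ((m a).1 + -(δ / γ) * (m a).2) + β * ((m a).2 + 0) +
          -(α / γ) * (γ * ((m a).1 + -(δ / γ) * (m a).2) + δ * ((m a).2 + 0)) = (β - α * δ / γ) * (m a).2
        field_simp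
        ring
      · show γ * ((m a).1 + -(δ / γ) * (m a).2) + δ * ((m a).2 + 0) + 0 = γ * (m a).1
        field_simp
        ring
    refine ⟨q * p * r, mul_mem (mul_mem hq hp) hr, β - α * δ / γ, γ, ?_, hγ0, hm⟩
    intro hzero
    -- injectivity
    obtain ⟨a, ha⟩ := m_surj (0, 1)
    have m0 : m 0 = 0 := by
      have := m_add 0 0
      rw [add_zero] at this
      exact left_eq_add.1 this
    have h2 := hm a
    rw [hzero, ha, zero_mul] at h2
    obtain ⟨L', hL'⟩ := hlin (q * p * r)⁻¹ (inv_mem (mul_mem (mul_mem hq hp) hr))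
    have h3 := hL' ((q * p * r) • a)
    rw [inv_smul_smul, h2, ha] at h3
    have h4 : ((0 : F), γ * ((0 : F), (1 : F)).1) = 0 := by
      show ((0 : F), γ * 0) = 0
      rw [mul_zero]; rfl
    rw [h4, map_zero] at h3
    exact one_ne_zero (congrArg Prod.snd h3)
  have hlo : ∀ c, ∃ p ∈ P, ∀ a, m (p • a) = pr (lo c) (m a) := by
    intro c
    obtain ⟨p, hp, h⟩ := hfull (β * γ⁻¹ * c)
    refine ⟨w * p * w⁻¹, mul_mem (mul_mem hw hp) (inv_mem hw), fun a => ?_⟩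
    obtain ⟨b, rfl⟩ : ∃ b, a = w • b := ⟨w⁻¹ • a, (smul_inv_smul w a).symm⟩
    rw [← mul_smul, inv_mul_cancel_right, mul_smul, hwm, h, hwm, pr_lo]
    ext
    · simp
    · show γ * ((m b).1 + β * γ⁻¹ * c * (m b).2) = γ * (m b).1 + c * (β * (m b).2)
      field_simp
  obtain ⟨a, b, c, d, rfl⟩ := exists_up_lo A
  exact hmul _ _ (hmul _ _ (hmul _ _ (hup _) (hlo _)) (hup _)) (hlo _)

theorem Full.tr {v : F → F → M} {m : M → F × F} {W O P : Subgroup Γ} (H : Full v m W O P) (x : F × F) (hx : x ≠ 0) :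
    ∃ p ∈ P, ∀ a, m a = (1, 0) → m (p • a) = x := by
  have h1 : ∃ A : SpecialLinearGroup (Fin 2) F, ent A 0 0 = x.1 ∧ ent A 1 0 = x.2 := by
    by_cases h : x.1 = 0
    · have h2 : x.2 ≠ 0 := fun h2 => hx (Prod.ext h h2)
      exact ⟨SL2Mat.mk x.1 (-x.2⁻¹) x.2 0 (by rw [mul_zero, zero_sub, neg_mul, neg_neg, inv_mul_cancel₀ h2]), rfl, rfl⟩
    · exact ⟨SL2Mat.mk x.1 0 x.2 x.1⁻¹ (by rw [mul_inv_cancel₀ h, zero_mul, sub_zero]), rfl, rfl⟩
  obtain ⟨A, h1, h2⟩ := h1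
  obtain ⟨p, hp, hpA⟩ := H.P_SL A
  refine ⟨p, hp, fun a ha => ?_⟩
  rw [hpA, ha, pr, h1, h2]
  ext <;> simp

namespace Dat

variable {v : F → F → M} {m : M → F × F} {O P S : Subgroup Γ} {n t : Γ} (D : Dat v m O P S n t)
include D

/-! ### The representation -/

/-- the matrix of `g` -/
noncomputable def mt (g : ↥D.LinS) : Matrix (Fin 3) (Fin 3) F := (D.exists_matrix g.2).choose

theorem mt_spec (g : ↥D.LinS) (a : M) : D.crd ((g : Γ) • a) = (D.mt g).mulVec (D.crd a) :=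
  (D.exists_matrix g.2).choose_spec a

theorem eq_mt {g : ↥D.LinS} {A : Matrix (Fin 3) (Fin 3) F} (h : ∀ a, D.crd ((g : Γ) • a) = A.mulVec (D.crd a)) :
    D.mt g = A := by
  refine Matrix.ext_of_mulVec_single fun i => ?_
  obtain ⟨a, ha⟩ := D.crd.surjective (Pi.single i 1)
  rw [← ha, ← h, D.mt_spec]

/-- the representation -/
noncomputable def rho : ↥D.LinS →* GL (Fin 3) F :=
  MonoidHom.toHomUnits
    { toFun := D.mt
      map_one' := D.eq_mt fun a => by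
        rw [Subgroup.coe_one, one_smul, one_mulVec]
      map_mul' := fun g h => D.eq_mt fun a => by
        rw [Subgroup.coe_mul, mul_smul, D.mt_spec, D.mt_spec, mulVec_mulVec] }

theorem coe_rho (g : ↥D.LinS) : (D.rho g : Matrix (Fin 3) (Fin 3) F) = D.mt g := rfl

theorem rho_spec (g : ↥D.LinS) (a : M) :
    D.crd ((g : Γ) • a) = (D.rho g : Matrix (Fin 3) (Fin 3) F).mulVec (D.crd a) := D.mt_spec g a

theorem rho_eq {g : ↥D.LinS} {A : Matrix (Fin 3) (Fin 3) F} (h : ∀ a, D.crd ((g : Γ) • a) = A.mulVec (D.crd a)) :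
    (D.rho g : Matrix (Fin 3) (Fin 3) F) = A := D.eq_mt h

/-- the kernel -/
theorem rho_eq_one {g : ↥D.LinS} : D.rho g = 1 ↔ ∀ a : M, (g : Γ) • a = a := by
  constructor
  · intro h a
    apply D.crd.injective
    rw [D.rho_spec, h, Units.val_one, one_mulVec]
  · intro h
    apply Units.ext
    exact D.rho_eq fun a => by rw [h, Units.val_one, one_mulVec]

theorem rho_apply (g : ↥D.LinS) (i j : Fin 3) :
    (D.rho g : Matrix (Fin 3) (Fin 3) F) i j = D.crd ((g : Γ) • D.crd.symm (Pi.single j 1)) i := by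
  rw [D.rho_spec, AddEquiv.apply_symm_apply, mulVec_single_one]
  rfl

theorem symm_zero : D.crd.symm (Pi.single 0 1) = v 1 0 := by
  rw [AddEquiv.symm_apply_eq, D.crd_v]
  ext i; fin_cases i <;> rfl

theorem symm_one : D.crd.symm (Pi.single 1 1) = v 0 1 := by
  rw [AddEquiv.symm_apply_eq, D.crd_v]
  ext i; fin_cases i <;> rfl

/-- `g` normalises `R₁` iff the first column is `(*, 0, 0)` -/
theorem col_zero {g : ↥D.LinS} (h : ∀ b, ∃ b', (g : Γ) • v b 0 = v b' 0) :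
    (D.rho g : Matrix (Fin 3) (Fin 3) F) 1 0 = 0 ∧ (D.rho g : Matrix (Fin 3) (Fin 3) F) 2 0 = 0 := by
  obtain ⟨b', hb⟩ := h 1
  rw [D.rho_apply, D.rho_apply, D.symm_zero, hb, D.crd_v]
  exact ⟨rfl, rfl⟩

theorem of_col_zero {g : ↥D.LinS} (h1 : (D.rho g : Matrix (Fin 3) (Fin 3) F) 1 0 = 0)
    (h2 : (D.rho g : Matrix (Fin 3) (Fin 3) F) 2 0 = 0) (b : F) :
    (g : Γ) • v b 0 = v ((D.rho g : Matrix (Fin 3) (Fin 3) F) 0 0 * b) 0 := by
  apply D.crd.injective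
  rw [D.rho_spec, D.crd_v, D.crd_v]
  ext i
  fin_cases i <;> simp [mulVec, dotProduct, Fin.sum_univ_three, h1, h2]

/-- `g` normalises `N` iff the last row is `(0, 0, *)` -/
theorem row_two {g : ↥D.LinS} (h : ∀ b c, ∃ b' c', (g : Γ) • v b c = v b' c') :
    (D.rho g : Matrix (Fin 3) (Fin 3) F) 2 0 = 0 ∧ (D.rho g : Matrix (Fin 3) (Fin 3) F) 2 1 = 0 := by
  obtain ⟨b', c', hb⟩ := h 1 0
  obtain ⟨b'', c'', hc⟩ := h 0 1
  rw [D.rho_apply, D.rho_apply, D.symm_zero, D.symm_one, hb, hc, D.crd_v, D.crd_v]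
  exact ⟨rfl, rfl⟩

theorem of_row_two {g : ↥D.LinS} (h1 : (D.rho g : Matrix (Fin 3) (Fin 3) F) 2 0 = 0)
    (h2 : (D.rho g : Matrix (Fin 3) (Fin 3) F) 2 1 = 0) (b c : F) : ∃ b' c', (g : Γ) • v b c = v b' c' := by
  refine ⟨(D.crd ((g : Γ) • v b c)) 0, (D.crd ((g : Γ) • v b c)) 1, ?_⟩
  apply D.crd.injective
  rw [D.crd_v, D.rho_spec, D.crd_v]
  ext i
  fin_cases i <;> simp [mulVec, dotProduct, Fin.sum_univ_three, h1, h2]

/-! ### The elements of `⟨O, O^n⟩` -/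

/-- `⟨O, O^n⟩` acts trivially on `M / N` and normalises `N` -/
theorem X_N {g : Γ} (hg : g ∈ O ⊔ cn n O) :
    (∀ a : M, ∃ b c, g • a = a + v b c) ∧ (∀ b c : F, ∃ b' c', g • v b c = v b' c') := by
  have key : ∀ g ∈ O ⊔ cn n O, ∀ a : M, ∃ b c, g • a = a + v b c := by
    let T : Subgroup Γ :=
      { carrier := {g | (∀ a : M, ∃ b c, g • a = a + v b c) ∧ (∀ a : M, ∃ b c, g⁻¹ • a = a + v b c)}
        one_mem' := ⟨fun a => ⟨0, 0, by rw [one_smul, D.v_zero, add_zero]⟩,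
          fun a => ⟨0, 0, by rw [inv_one, one_smul, D.v_zero, add_zero]⟩⟩
        mul_mem' := by
          have aux : ∀ {g h : Γ}, (∀ a : M, ∃ b c, g • a = a + v b c) → (∀ a : M, ∃ b c, h • a = a + v b c) →
              ∀ a : M, ∃ b c, (g * h) • a = a + v b c := by
            intro g h hg hh a
            obtain ⟨b, c, h1⟩ := hh a
            obtain ⟨b', c', h2⟩ := hg (h • a)
            refine ⟨b + b', c + c', ?_⟩
            rw [mul_smul, h2, h1, D.v_add, add_assoc]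
          rintro g h ⟨hg, hg'⟩ ⟨hh, hh'⟩
          refine ⟨aux hg hh, ?_⟩
          rw [_root_.mul_inv_rev]
          exact aux hh' hg'
        inv_mem' := by
          rintro g ⟨hg, hg'⟩
          refine ⟨hg', ?_⟩
          rw [inv_inv]
          exact hg }
    have hO : ∀ w ∈ O, ∀ a : M, ∃ b c, w • a = a + v b c := fun w hw a => by
      obtain ⟨b, hb⟩ := D.O_act w hw a
      exact ⟨b, 0, hb⟩
    have hn : ∀ w ∈ O, ∀ a : M, ∃ b c, (n * w * n⁻¹) • a = a + v b c := fun w hw a => by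
      obtain ⟨b, hb⟩ := D.O_act w hw (n⁻¹ • a)
      refine ⟨0, b, ?_⟩
      rw [mul_smul, mul_smul, hb, smul_add, smul_inv_smul, D.n_v]
    have h1 : O ⊔ cn n O ≤ T := by
      apply sup_le
      · exact fun w hw => ⟨hO w hw, hO _ (inv_mem hw)⟩
      · rintro _ ⟨w, hw, rfl⟩
        refine ⟨hn w hw, ?_⟩
        have e : (((MulAut.conj n).toMonoidHom w : Γ))⁻¹ = n * w⁻¹ * n⁻¹ := by
          show (n * w * n⁻¹)⁻¹ = n * w⁻¹ * n⁻¹
          group
        rw [e]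
        exact hn _ (inv_mem hw)
    exact fun g hg => (h1 hg).1
  refine ⟨key g hg, fun b c => ?_⟩
  obtain ⟨b', c', h⟩ := key g hg (v b c)
  exact ⟨b + b', c + c', by rw [h, D.v_add]⟩

/-- the functional of an element of `O` -/
theorem O_fun {w : Γ} (hw : w ∈ O) : ∃ l k : F, ∀ a, w • a = a + v (l * (m a).1 + k * (m a).2) 0 := by
  obtain ⟨w0, hw0⟩ := D.m_surj (0, 1)
  obtain ⟨l, -, hl⟩ := D.O_key hw (v 0 1)
  obtain ⟨k, -, hk⟩ := D.O_key hw w0
  refine ⟨l, k, fun a => ?_⟩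
  -- `a = (m a).1 (v 0 1) + (m a).2 w0 + v b 0`
  have h1 : m a = m (D.sc (m a).1 (v 0 1) + D.sc (m a).2 w0) := by
    rw [D.m_add, D.m_sc, D.m_sc, D.m_v, hw0]
    ext <;> simp
  obtain ⟨b, hb⟩ := D.eq_add_v h1
  have h2 := hl (m a).1 _ (D.m_sc (m a).1 (v 0 1))
  have h3 := hk (m a).2 _ (D.m_sc (m a).2 w0)
  have e : w • a = a + (v ((m a).1 * l) 0 + v ((m a).2 * k) 0) := by
    generalize (m a).1 = x, (m a).2 = y at hb h2 h3 ⊢
    rw [hb, smul_add, smul_add, h2, h3, D.O_R w hw]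
    abel
  rw [e, ← D.v_add, add_zero, mul_comm l, mul_comm k]

/-- `W` induces everything -/
theorem exists_O {W E : Subgroup Γ} (hE : E ≤ P) (H : Full v m W O E) (l k : F) :
    ∃ w ∈ W, ∀ a, w • a = a + v (l * (m a).1 + k * (m a).2) 0 := by
  by_cases h0 : l = 0 ∧ k = 0
  · obtain ⟨rfl, rfl⟩ := h0
    refine ⟨1, one_mem _, fun a => ?_⟩
    rw [zero_mul, zero_mul, add_zero, D.v_zero, add_zero, one_smul]
  -- a functional `(1, μ)`
  obtain ⟨w, hw, hw1⟩ := H.W_full 1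
  obtain ⟨l', μ, hf⟩ := D.O_fun (H.W_le hw)
  have hl' : l' = 1 := by
    have h1 := hf (v 0 1)
    rw [hw1, D.m_v, ← D.v_add] at h1
    have h2 := (D.v_eq h1).1
    simpa using h2.symm
  subst hl'
  -- `(1, μ) A = (l, k)`
  obtain ⟨A, h1, h2⟩ : ∃ A : SpecialLinearGroup (Fin 2) F,
      ent A 0 0 + μ * ent A 1 0 = l ∧ ent A 0 1 + μ * ent A 1 1 = k := by
    by_cases hl : l = 0
    · have hk : k ≠ 0 := fun hk => h0 ⟨hl, hk⟩
      -- A = (-μ c, b; c, d) with k = b + μ d, c = -k⁻¹, d = 0, b = k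
      refine ⟨SL2Mat.mk (μ * k⁻¹) k (-k⁻¹) 0 ?_, ?_, ?_⟩
      · rw [mul_zero, zero_sub, mul_neg, neg_neg, mul_inv_cancel₀ hk]
      · rw [SL2Mat.mk_00, SL2Mat.mk_10, hl]; ring
      · rw [SL2Mat.mk_01, SL2Mat.mk_11]; ring
    · -- A = (l, b; 0, l⁻¹)
      refine ⟨SL2Mat.mk l (k - μ * l⁻¹) 0 l⁻¹ ?_, ?_, ?_⟩
      · rw [mul_inv_cancel₀ hl]; ring
      · rw [SL2Mat.mk_00, SL2Mat.mk_10]; ring
      · rw [SL2Mat.mk_01, SL2Mat.mk_11]; ring
  obtain ⟨p, hp, hpA⟩ := H.P_SL A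
  refine ⟨p⁻¹ * w * p, H.P_W p hp w hw, fun a => ?_⟩
  have hpi : ∀ b, p⁻¹ • v b 0 = v b 0 := fun b => D.P_R _ (inv_mem (hE hp)) b
  rw [mul_smul, mul_smul, hf, hpA, smul_add, inv_smul_smul, hpi, pr]
  congr 2
  rw [← h1, ← h2]
  ring

/-- `W^n` induces everything -/
theorem exists_cn {W E : Subgroup Γ} (hE : E ≤ P) (H : Full v m W O E) (l k : F) :
    ∃ w ∈ cn n W, ∀ a, w • a = a + v 0 (l * x0 m n a + k * (m a).2) := by
  obtain ⟨w, hw, hf⟩ := D.exists_O hE H l k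
  refine ⟨n * w * n⁻¹, ⟨w, hw, rfl⟩, fun a => ?_⟩
  rw [mul_smul, mul_smul, hf, smul_add, smul_inv_smul, D.n_v, D.snd_ninv]
  rfl

theorem crd_add_v (a : M) (b c : F) : D.crd (a + v b c) = D.crd a + ![b, c, 0] := by
  rw [map_add, D.crd_v]

theorem crd_zero (a : M) : D.crd a 0 = x0 m n a := rfl

theorem crd_one (a : M) : D.crd a 1 = (m a).1 := rfl

theorem crd_two (a : M) : D.crd a 2 = (m a).2 := rfl

/-- **`⟨W, W^n, E⟩` induces `SL₃(F)`.** -/
theorem exists_of_SL [Finite Γ] [CharP F 2] {W E : Subgroup Γ} (hE : E ≤ P) (H : Full v m W O E)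
    (A : SpecialLinearGroup (Fin 3) F) :
    ∃ g ∈ (W ⊔ cn n W) ⊔ E, ∀ a, D.crd (g • a) = A.1.mulVec (D.crd a) := by
  -- closure properties
  have hmul : ∀ A B : SpecialLinearGroup (Fin 3) F,
      (∃ g ∈ (W ⊔ cn n W) ⊔ E, ∀ a, D.crd (g • a) = A.1.mulVec (D.crd a)) →
      (∃ g ∈ (W ⊔ cn n W) ⊔ E, ∀ a, D.crd (g • a) = B.1.mulVec (D.crd a)) →
      ∃ g ∈ (W ⊔ cn n W) ⊔ E, ∀ a, D.crd (g • a) = (A * B).1.mulVec (D.crd a) := by
    rintro A B ⟨g, hg, hgA⟩ ⟨h, hh, hhB⟩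
    refine ⟨g * h, mul_mem hg hh, fun a => ?_⟩
    rw [mul_smul, hgA, hhB, mulVec_mulVec]
    rfl
  have hinv : ∀ A : SpecialLinearGroup (Fin 3) F,
      (∃ g ∈ (W ⊔ cn n W) ⊔ E, ∀ a, D.crd (g • a) = A.1.mulVec (D.crd a)) →
      ∃ g ∈ (W ⊔ cn n W) ⊔ E, ∀ a, D.crd (g • a) = (A⁻¹).1.mulVec (D.crd a) := by
    rintro A ⟨g, hg, hgA⟩
    refine ⟨g⁻¹, inv_mem hg, fun a => ?_⟩
    have h1 := hgA (g⁻¹ • a)
    rw [smul_inv_smul] at h1
    rw [h1, mulVec_mulVec]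
    have h2 : (A⁻¹).1 * A.1 = 1 := by
      have : (A⁻¹ * A).1 = 1 := by rw [inv_mul_cancel]; rfl
      exact this
    rw [h2, one_mulVec]
  have hO : W ≤ (W ⊔ cn n W) ⊔ E := le_sup_left.trans le_sup_left
  have hcn : cn n W ≤ (W ⊔ cn n W) ⊔ E := le_sup_right.trans le_sup_left
  have hP : E ≤ (W ⊔ cn n W) ⊔ E := le_sup_right
  have tv : ∀ {i j : Fin 3} (hij : i ≠ j) (c : F) (x : Fin 3 → F),
      (SpecialLinearGroup.transvection hij c).1.mulVec x = x + (c * x j) • Pi.single i (1 : F) := by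
    intro i j hij c x
    have := LieClassical.SLGen.transvection_smul hij c x
    rw [Matrix.SpecialLinearGroup.smul_def] at this
    exact this
  have h01 : ∀ c, ∃ g ∈ (W ⊔ cn n W) ⊔ E, ∀ a,
      D.crd (g • a) = (SpecialLinearGroup.transvection (show (0 : Fin 3) ≠ 1 by decide) c).1.mulVec (D.crd a) := by
    intro c
    obtain ⟨w, hw, hf⟩ := D.exists_O hE H c 0
    refine ⟨w, hO hw, fun a => ?_⟩
    rw [hf, D.crd_add_v, tv, D.crd_one]
    ext i; fin_cases i <;> simp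
  have h02 : ∀ c, ∃ g ∈ (W ⊔ cn n W) ⊔ E, ∀ a,
      D.crd (g • a) = (SpecialLinearGroup.transvection (show (0 : Fin 3) ≠ 2 by decide) c).1.mulVec (D.crd a) := by
    intro c
    obtain ⟨w, hw, hf⟩ := D.exists_O hE H 0 c
    refine ⟨w, hO hw, fun a => ?_⟩
    rw [hf, D.crd_add_v, tv, D.crd_two]
    ext i; fin_cases i <;> simp
  have h10 : ∀ c, ∃ g ∈ (W ⊔ cn n W) ⊔ E, ∀ a,
      D.crd (g • a) = (SpecialLinearGroup.transvection (show (1 : Fin 3) ≠ 0 by decide) c).1.mulVec (D.crd a) := by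
    intro c
    obtain ⟨w, hw, hf⟩ := D.exists_cn hE H c 0
    refine ⟨w, hcn hw, fun a => ?_⟩
    rw [hf, D.crd_add_v, tv, D.crd_zero]
    ext i; fin_cases i <;> simp
  have h12 : ∀ c, ∃ g ∈ (W ⊔ cn n W) ⊔ E, ∀ a,
      D.crd (g • a) = (SpecialLinearGroup.transvection (show (1 : Fin 3) ≠ 2 by decide) c).1.mulVec (D.crd a) := by
    intro c
    obtain ⟨w, hw, hf⟩ := D.exists_cn hE H 0 c
    refine ⟨w, hcn hw, fun a => ?_⟩
    rw [hf, D.crd_add_v, tv, D.crd_two]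
    ext i; fin_cases i <;> simp
  have h21 : ∀ c, ∃ g ∈ (W ⊔ cn n W) ⊔ E, ∀ a,
      D.crd (g • a) = (SpecialLinearGroup.transvection (show (2 : Fin 3) ≠ 1 by decide) c).1.mulVec (D.crd a) := by
    intro c
    obtain ⟨p, hp, hpA⟩ := H.P_SL (lo c)
    have hpL : p ∈ D.LinS := D.P_le_LinS (hE hp)
    -- the first row of the matrix of `p`
    obtain ⟨A, hA⟩ := D.exists_matrix hpL
    have hx0 : ∀ a, x0 m n (p • a) = x0 m n a + A 0 1 * (m a).1 + A 0 2 * (m a).2 := by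
      intro a
      have h1 : A 0 0 = 1 := by
        have h2 := hA (v 1 0)
        rw [D.P_R p (hE hp), D.crd_v] at h2
        have h3 := congrFun h2 0
        simpa [mulVec, dotProduct, Fin.sum_univ_three] using h3.symm
      have h2 := congrFun (hA a) 0
      rw [D.crd_zero] at h2
      rw [h2]
      simp [mulVec, dotProduct, Fin.sum_univ_three, h1, D.crd_zero, D.crd_one, D.crd_two]
    obtain ⟨w, hw, hf⟩ := D.exists_O hE H (- A 0 1 + c * A 0 2) (- A 0 2)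
    refine ⟨w * p, mul_mem (hO hw) (hP hp), fun a => ?_⟩
    have hm : m (p • a) = ((m a).1, c * (m a).1 + (m a).2) := by
      rw [hpA, pr, lo_00, lo_01, lo_10, lo_11]
      ext <;> simp
    rw [mul_smul, hf, D.crd_add_v, tv, D.crd_one, hm]
    ext i
    fin_cases i
    · simp only [Pi.add_apply, Pi.smul_apply]
      show D.crd (p • a) 0 + _ = D.crd a 0 + _
      rw [D.crd_zero, D.crd_zero, hx0]
      simp
      ring
    · show D.crd (p • a) 1 + _ = D.crd a 1 + _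
      rw [D.crd_one, D.crd_one, hm]
      simp
    · show D.crd (p • a) 2 + _ = D.crd a 2 + _
      rw [D.crd_two, D.crd_two, hm]
      simp
      ring
  have h20 : ∀ c, ∃ g ∈ (W ⊔ cn n W) ⊔ E, ∀ a,
      D.crd (g • a) = (SpecialLinearGroup.transvection (show (2 : Fin 3) ≠ 0 by decide) c).1.mulVec (D.crd a) := by
    intro c
    have h1 := LieClassical.SLGen.commutator_transvection (F := F) (show (2 : Fin 3) ≠ 0 by decide)
      (show (2 : Fin 3) ≠ 1 by decide) (show (1 : Fin 3) ≠ 0 by decide) c 1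
    rw [mul_one, commutatorElement_def] at h1
    rw [← h1]
    exact hmul _ _ (hmul _ _ (hmul _ _ (h21 c) (h10 1)) (hinv _ (h21 c))) (hinv _ (h10 1))
  refine LieClassical.SLGen.transvection_induction
    (fun A => ∃ g ∈ (W ⊔ cn n W) ⊔ E, ∀ a, D.crd (g • a) = A.1.mulVec (D.crd a)) ?_ hmul A
  intro i j hij c
  fin_cases i <;> fin_cases j
  · exact absurd rfl hij
  · exact h01 c
  · exact h02 c
  · exact h10 c
  · exact absurd rfl hij
  · exact h12 c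
  · exact h20 c
  · exact h21 c
  · exact absurd rfl hij

end Dat

end Cfsg.Agent.Omega.HSplit.LinA
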