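import Cfsg.Agent.Omega.Lie.Nodes.NodeOut

/-!
# Type `(α)` of the node theorem: a line `V ≠ V ^ p' ≤ D`
-/

set_option autoImplicit false
set_option linter.unusedSectionVars false

namespace Cfsg.Agent.Omega.HSplit.Alpha

open Subgroup Cfsg.Agent.Omega.BTwo Cfsg.Agent.Omega.Lie.Nodes

universe u v w

variable {G : Type u} [Group G] {ι : Type w} {V : Subgroup G} {R : ι → Subgroup G} {i j : ι}
  {F : Type v} [Field F] {v : F → F → G} {w1 w2 t : F → G}

variable {M B : Type u} [AddCommGroup M] [AddCommGroup B]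
  [DistribMulAction (NR R i) M] [DistribMulAction (NR R i) B] [Module F M] {p : G → M} {r : G → B}
  {f : M →+ M →+ B} {φ : M →ₗ[F] M →ₗ[F] F} {s : NR R i → (F ≃+* F)} [CharP F 2]
  [Finite G] [Finite F] {h : FMod V R i j v w1 w2 M B p r f φ s} {τ : Lie.TorD V R i j v t}
  {N : Type u} [AddCommGroup N] [Module F N] {P1 P2 : G → N} {y : YPair V R i j w1 w2 N P1 P2}
  {n : N →ₗ[F] M} {sf : N →ₗ[F] N →ₗ[F] M} {q : N → N →ₗ[F] F}

/-- type `(α)` of the node theorem: a line in `D` -/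
theorem exists_alpha (g : Eig h τ y n sf q) {P : Subgroup G} (hPR : P ≤ centralizer (R i : Set G)) {d : M}
    (hP : NodeA g P d) : ∃ p' ∈ P, cj p' V ≠ V ∧ cj p' V ≤ DD V R := by
  have _ := g
  obtain ⟨x, hx, a, ha, h1⟩ := hP.orb' 0 1 (by rw [zero_smul, zero_add, one_smul]; exact hP.ne)
  rw [zero_smul, zero_add, one_smul] at h1
  have hWN := normalizer_le_WW V (R i) x.2
  refine ⟨x, hx, fun hc => ?_, ?_⟩
  · -- `x • e` would be in `F e`
    have h2 : (x : G) * v 0 1 * (x : G)⁻¹ ∈ V := by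
      have := conj_mem_cj (g := (x : G)) (h.co.v_mem 0 1)
      rwa [hc] at this
    obtain ⟨r', s', h3⟩ := (h.co.mem_V _).1 h2
    have h4 : a • d = s' • p (v 0 1) := by
      rw [← h1, ← h.p_v r' s', h3]
      exact h.fr.p_act x (v 0 1) (V_le_WW V (R i) (h.co.v_mem 0 1))
    have h5 : s' • p (v 0 1) ∈ h.M0 τ := by
      rw [← h4]
      exact (h.M0 τ).smul_mem a hP.mem
    have h6 := h.e_M0 τ h5
    rw [h6, zero_smul] at h4
    exact hP.ne ((smul_eq_zero.1 h4).resolve_left ha)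
  · rw [cj_le_iff]
    intro z hz
    obtain ⟨r', s', rfl⟩ := (h.co.mem_V z).1 hz
    have hzW := V_le_WW V (R i) (h.co.v_mem r' s')
    have hxz := BTwo.conj_mem_of_normalizer hWN hzW
    have h2 : p ((x : G) * v r' s' * (x : G)⁻¹) ∈ h.fr.sb (DD V R) := by
      rw [← h.fr.p_act x (v r' s') hzW, h.p_v r' s', h.lin_cen (hPR hx), h1]
      exact h.M0_le τ y ((h.M0 τ).smul_mem _ ((h.M0 τ).smul_mem _ hP.mem))
    exact (h.fr.p_mem_iff hxz ((h.bt.R_le i).trans (V_le_D V R))).1 h2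

end Cfsg.Agent.Omega.HSplit.Alpha
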