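import Cfsg.Agent.ParSys.FrontSys
import Cfsg.Agent.Omega.HOneQ.ResW

/-!
# A panel `Q / B` with a 2-subgroup `U` transitive and semiregular on the other chambers

`odd_relIndex` : `|Q : B|` is odd; `WN U Q = ⟨U ^ Q⟩`, `Q = WN U Q ⊔ B`; `N_Q(U) ≤ B`.
-/

set_option autoImplicit false

namespace Cfsg.Agent.Omega.HSplit.Panel

open Subgroup Cfsg.Agent.Omega.BTwo Cfsg.Agent.ParSys Cfsg.Agent.Omega.HOneQ

variable {G : Type*} [Group G]

/-- the panel `Q / B` -/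
structure Pan (B U Q : Subgroup G) : Prop where
  UB : U ≤ B
  norm : B ≤ normalizer (U : Set G)
  isP : IsPGroup 2 U
  index : Nat.Coprime 2 (U.relIndex B)
  le : B ≤ Q
  three : ∃ x ∈ Q, ∃ y ∈ Q, x ∉ B ∧ y ∉ B ∧ x⁻¹ * y ∉ B
  ptr : Hall.HallData.PTr B U Q
  reg : ∀ u ∈ U, ∀ g ∈ Q, g ∉ B → g⁻¹ * u * g ∈ B → u ∈ Qk B Q

namespace Pan

variable {B U Q : Subgroup G} (h : Pan B U Q)
include h

theorem exists_not : ∃ x ∈ Q, x ∉ B := by
  obtain ⟨x, hx, -, -, hxB, -⟩ := h.three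
  exact ⟨x, hx, hxB⟩

/-- elements of 2-power order of `B` are in `U` -/
theorem mem_U {x : G} (hx : x ∈ B) {n : ℕ} (hn : x ^ 2 ^ n ∈ U) : x ∈ U :=
  Hall.mem_of_pow_mem_of_coprime (a := 2 ^ n) (b := U.relIndex B) hn (Hall.pow_relIndex_mem h.norm hx)
    (h.index.pow_left n)

theorem le_U {K : Subgroup G} (hK : IsPGroup 2 K) (hKB : K ≤ B) : K ≤ U := by
  intro x hx
  obtain ⟨n, hn⟩ := hK ⟨x, hx⟩
  have hn' : x ^ 2 ^ n = 1 := congrArg Subtype.val hn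
  exact h.mem_U (hKB hx) (n := n) (by rw [hn']; exact one_mem _)

theorem conj_mem_U {u g : G} (hu : u ∈ U) (hg : g⁻¹ * u * g ∈ B) : g⁻¹ * u * g ∈ U := by
  obtain ⟨n, hn⟩ := h.isP ⟨u, hu⟩
  have hn' : u ^ 2 ^ n = 1 := congrArg Subtype.val hn
  refine h.mem_U hg (n := n) ?_
  have e : (g⁻¹ * u * g) ^ 2 ^ n = g⁻¹ * u ^ 2 ^ n * g := by
    have := conj_pow (i := 2 ^ n) (a := g⁻¹) (b := u)
    rwa [inv_inv] at this
  rw [e, hn', mul_one, inv_mul_cancel]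
  exact one_mem _

theorem not_U_le_Qk : ¬ ∀ u ∈ U, u ∈ Qk B Q := by
  intro hc
  obtain ⟨x, hx, y, hy, hxB, hyB, hxy⟩ := h.three
  obtain ⟨u, hu, b, hb, e⟩ := h.ptr x hx hxB y hy hyB
  apply hxy
  rw [e]
  have e1 : x⁻¹ * (u * x * b) = x⁻¹ * u * x * b := by group
  rw [e1]
  exact mul_mem (hc u hu x hx) hb

theorem U_le_Q : U ≤ Q := h.UB.trans h.le

/-- **`|Q : B|` is odd** -/
theorem odd_relIndex [Finite G] : Odd (B.relIndex Q) := by
  classical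
  obtain ⟨x, hx, y, hy, hxB, hyB, hxy⟩ := h.three
  set B' := B.subgroupOf Q with hB'
  set U' := U.subgroupOf Q with hU'
  have hP : IsPGroup 2 U' := by
    refine h.isP.of_injective (subgroupOfEquivOfLe h.U_le_Q).toMonoidHom ?_
    exact (subgroupOfEquivOfLe h.U_le_Q).injective
  set x0 : Q ⧸ B' := QuotientGroup.mk ⟨x, hx⟩ with hx0
  set y0 : Q ⧸ B' := QuotientGroup.mk ⟨y, hy⟩ with hy0
  have hmem : ∀ z : Q ⧸ B', z ∈ MulAction.orbit U' x0 ↔ z ≠ QuotientGroup.mk 1 := by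
    intro z
    obtain ⟨⟨z, hz⟩, rfl⟩ := QuotientGroup.mk_surjective z
    constructor
    · rintro ⟨⟨⟨u, huQ⟩, hu⟩, e⟩ h1
      have e1 : (QuotientGroup.mk (⟨u, huQ⟩ * ⟨x, hx⟩) : Q ⧸ B') = QuotientGroup.mk 1 := by
        rw [← h1]; exact e
      rw [QuotientGroup.eq] at e1
      have e2 : (u * x)⁻¹ * 1 ∈ B := e1
      rw [mul_one] at e2
      have e3 := inv_mem e2
      rw [inv_inv] at e3
      apply hxB
      have hu' : u ∈ U := hu
      have e4 := mul_mem (inv_mem (h.UB hu')) e3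
      rwa [inv_mul_cancel_left] at e4
    · intro hz1
      have hzB : z ∉ B := by
        intro hzB
        apply hz1
        rw [QuotientGroup.eq]
        change z⁻¹ * 1 ∈ B
        rw [mul_one]
        exact inv_mem hzB
      obtain ⟨u, hu, b, hb, e⟩ := h.ptr x hx hxB z hz hzB
      refine ⟨⟨⟨u, h.U_le_Q hu⟩, hu⟩, ?_⟩
      change (QuotientGroup.mk (⟨u, h.U_le_Q hu⟩ * ⟨x, hx⟩) : Q ⧸ B') = QuotientGroup.mk ⟨z, hz⟩
      rw [QuotientGroup.eq]
      change (u * x)⁻¹ * z ∈ B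
      rw [e]
      have e1 : (u * x)⁻¹ * (u * x * b) = b := by group
      rw [e1]
      exact hb
  obtain ⟨n, hn⟩ := hP.card_orbit x0
  have hcard : Nat.card (Q ⧸ B') = Nat.card (MulAction.orbit U' x0) + 1 := by
    have h1 : MulAction.orbit U' x0 = {(QuotientGroup.mk 1 : Q ⧸ B')}ᶜ := by
      ext z
      rw [hmem, Set.mem_compl_iff, Set.mem_singleton_iff]
    have h2 := Set.ncard_add_ncard_compl ({(QuotientGroup.mk 1 : Q ⧸ B')} : Set (Q ⧸ B'))
    rw [Set.ncard_singleton, ← h1] at h2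
    have h3 : Nat.card (MulAction.orbit U' x0) = (MulAction.orbit U' x0).ncard := rfl
    rw [h3, ← h2, add_comm]
  have h2 : 2 ≤ Nat.card (MulAction.orbit U' x0) := by
    have hne : (⟨x0, MulAction.mem_orbit_self x0⟩ : MulAction.orbit U' x0) ≠ ⟨y0, (hmem y0).2 (by
        intro e1
        rw [hy0, QuotientGroup.eq] at e1
        have e2 : y⁻¹ * 1 ∈ B := e1
        rw [mul_one] at e2
        exact hyB (by have := inv_mem e2; rwa [inv_inv] at this))⟩ := by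
      intro e1
      have e2 : x0 = y0 := congrArg Subtype.val e1
      rw [hx0, hy0, QuotientGroup.eq] at e2
      exact hxy e2
    have : Nontrivial (MulAction.orbit U' x0) := ⟨_, _, hne⟩
    exact Finite.one_lt_card
  have hr : B.relIndex Q = Nat.card (Q ⧸ B') := rfl
  rw [hr, hcard, hn]
  rcases n with _ | n
  · rw [hn] at h2
    norm_num at h2
  · rw [pow_succ]
    exact ⟨2 ^ n, by ring⟩

theorem odd_U [Finite G] : ¬ 2 ∣ U.relIndex Q := by
  rw [← relIndex_mul_relIndex U B Q h.UB h.le]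
  intro h1
  rcases (Nat.prime_two.dvd_mul).1 h1 with h2 | h2
  · have h3 := Nat.Coprime.eq_one_of_dvd h.index h2
    omega
  · obtain ⟨k, hk⟩ := h.odd_relIndex
    omega

theorem odd_U' [Finite G] {P : Subgroup G} (hU : U ≤ P) (hP : P ≤ Q) : ¬ 2 ∣ U.relIndex P := by
  intro h1
  apply h.odd_U
  rw [← relIndex_mul_relIndex U P Q hU hP]
  exact h1.mul_right _

/-- `N_Q(U) ≤ B` -/
theorem mem_B_of_norm {x : G} (hx : x ∈ Q) (hU : x ∈ normalizer (U : Set G)) : x ∈ B := by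
  by_contra hxB
  refine h.not_U_le_Qk fun u hu => h.reg u hu x hx hxB (h.UB ?_)
  exact conj_inv_mem_of_normalizer hU hu

/-- `U ^ Q` is not in `B` -/
theorem WN_not_le : ¬ WN U Q ≤ B := by
  intro hc
  refine h.not_U_le_Qk fun u hu g hg => hc ?_
  have h1 : g⁻¹ * u * g⁻¹⁻¹ ∈ cj g⁻¹ U := conj_mem_cj hu
  rw [inv_inv] at h1
  exact line_le_WN (inv_mem hg) h1

theorem WN_le_Q : WN U Q ≤ Q := WN_le fun p hp => by
  rw [cj_le_iff]
  intro x hx
  exact mul_mem (mul_mem hp (h.U_le_Q hx)) (inv_mem hp)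

/-- **`Q = ⟨U ^ Q⟩ B`** -/
theorem sup_eq : WN U Q ⊔ B = Q := by
  apply le_antisymm (sup_le h.WN_le_Q h.le)
  obtain ⟨x0, hx0, hx0B⟩ := SetLike.not_le_iff_exists.1 h.WN_not_le
  intro g hg
  by_cases hgB : g ∈ B
  · exact mem_sup_right hgB
  obtain ⟨u, hu, b, hb, rfl⟩ := h.ptr x0 (h.WN_le_Q hx0) hx0B g hg hgB
  exact mul_mem (mul_mem (mem_sup_right (h.UB hu)) (mem_sup_left hx0)) (mem_sup_right hb)

theorem exists_mul {x : G} (hx : x ∈ Q) : ∃ e ∈ WN U Q, ∃ b ∈ B, x = e * b := by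
  have hn : B ≤ normalizer (WN U Q : Set G) := h.le.trans P_norm_WN
  have h1 : x ∈ ((WN U Q ⊔ B : Subgroup G) : Set G) := by
    rw [h.sup_eq]; exact hx
  rw [coe_mul_of_right_le_normalizer_left _ _ hn] at h1
  obtain ⟨y, hy, z, hz, e⟩ := h1
  exact ⟨y, hy, z, hz, e.symm⟩

/-- `⟨U ^ Q⟩` is generated by its conjugates of `U` -/
theorem WN_gen {N : Subgroup G} (hN : ∀ e ∈ WN U Q, ∀ u ∈ U, e * u * e⁻¹ ∈ N) : WN U Q ≤ N := by
  refine WN_le fun p hp => ?_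
  rw [cj_le_iff]
  intro u hu
  obtain ⟨e, he, b, hb, rfl⟩ := h.exists_mul hp
  have h1 : b * u * b⁻¹ ∈ U := BTwo.conj_mem_of_normalizer (h.norm hb) hu
  have e1 : e * b * u * (e * b)⁻¹ = e * (b * u * b⁻¹) * e⁻¹ := by group
  rw [e1]
  exact hN e he _ h1

/-- the stabiliser in `Q` of something fixed by `B` and moved by `Q` is `B` -/
theorem mem_B_of_stab {S : Subgroup G} (hB : B ≤ S) (hQ : ¬ Q ≤ S) {x : G} (hx : x ∈ Q) (hxS : x ∈ S) : x ∈ B := by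
  by_contra hxB
  apply hQ
  intro g hg
  by_cases hgB : g ∈ B
  · exact hB hgB
  obtain ⟨u, hu, b, hb, rfl⟩ := h.ptr x hx hxB g hg hgB
  exact mul_mem (mul_mem (hB (h.UB hu)) hxS) (hB hb)

end Pan

end Cfsg.Agent.Omega.HSplit.Panel
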